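import Cfsg.Agent.Lib.ZassSuz.NOdd
import Cfsg.Agent.Lib.Suzuki2.TypeA
import Cfsg.Agent.Lib.Small.SharpEven
import Cfsg.Prelude.Def_Exceptional

/-!
# Simple Zassenhaus groups
-/

set_option autoImplicit false
set_option linter.style.haveILetI false
set_option linter.unusedSectionVars false

namespace Cfsg.Agent.ZassSuz

open Cfsg.Agent.Zass MulAction

universe u v

variable {G : Type u} [Group G] [Finite G] {Ω : Type v} [MulAction G Ω] [Fintype Ω]

/-- A normal subgroup of a point stabiliser, regular on the other points, is the kernel. -/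
theorem ker_of_reg (hZ : Cfsg.IsZassenhausGroup G Ω) {a b : Ω} (hab : a ≠ b) {U : Subgroup G}
    (hle : U ≤ stabilizer G a) (hn : ∀ h ∈ stabilizer G a, ∀ u ∈ U, h * u * h⁻¹ ∈ U)
    (hreg : ∀ c d : Ω, c ≠ a → d ≠ a → ∃! u : U, (u : G) • c = d) : ZassKer.Ker a b U := by
  classical
  refine ⟨hZ, hab, hle, ?_, fun u hu hu1 c hc => ?_, hn⟩
  · have e : Nat.card U = Nat.card {c : Ω // c ≠ a} := by
      refine Nat.card_congr (Equiv.ofBijective
        (fun u : U => (⟨(u : G) • b, fun h => hab.symm ((smul_left_cancel_iff (u : G)).mp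
          (h.trans (mem_stabilizer_iff.mp (hle u.2)).symm))⟩ : {c : Ω // c ≠ a})) ⟨?_, ?_⟩)
      · intro u v h
        exact (hreg b ((v : G) • b) hab.symm (fun h' => hab.symm ((smul_left_cancel_iff (v : G)).mp
          (h'.trans (mem_stabilizer_iff.mp (hle v.2)).symm)))).unique (congrArg Subtype.val h) rfl
      · intro c
        obtain ⟨u, hu, -⟩ := hreg b c hab.symm c.2
        exact ⟨u, Subtype.ext hu⟩
    rw [e, Nat.card_eq_fintype_card, Fintype.card_subtype_compl, Fintype.card_subtype_eq]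
    have : 0 < Fintype.card Ω := Fintype.card_pos_iff.mpr ⟨a⟩
    omega
  · by_contra hca
    have h := (hreg c c hca hca).unique (y₁ := (⟨u, hu⟩ : U)) (y₂ := 1) hc (one_smul _ _)
    exact hu1 (congrArg Subtype.val h)

/-- The structure in the nonabelian case. -/
theorem structure_nonabelian [IsSimpleGroup G] {a b : Ω} {U : Subgroup G} (D : ZassKer.Ker a b U)
    (hna : ∃ u ∈ U, ∃ v ∈ U, u * v ≠ v * u) :
    ∃ n : ℕ, Odd n ∧ 1 < n ∧ Nat.card U = 2 ^ (2 * n) ∧
      Nat.card (two (G := G) a b) = 2 ^ n - 1 ∧ IsCyclic (two (G := G) a b) ∧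
      ∃ (F : Type) (_ : Field F) (_ : Fintype F) (φ : F ≃+* F), Fintype.card F = 2 ^ n ∧
        Nonempty (U ≃* Cfsg.suzukiTypeA F (φ : F →+* F)) := by
  haveI : Fintype G := Fintype.ofFinite G
  have S := Suz.of_ker D hna
  obtain ⟨n, hn2, hn⟩ := S.exists_pow
  have hU : Nat.card U = 2 ^ (2 * n) := by
    rw [S.card_sq, hn, ← pow_mul, mul_comm]
  refine ⟨n, S.odd_exponent hn, by omega, hU, by omega, D.cyclic_inverted.1, ?_⟩
  obtain ⟨F, i1, i2, φ, hF, -, -, hiso⟩ := Suzuki2.Datum.exists_typeA S.datum S.hna'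
    (show Nat.card U = Nat.card S.V ^ 2 by rw [S.card_sq, S.card_V])
  refine ⟨F, i1, i2, φ, ?_, hiso⟩
  rw [← hn, ← S.card_V]
  exact hF

/-- In the nonabelian case the group has Suzuki order. -/
theorem isSuzuki [IsSimpleGroup G] {a b : Ω} {U : Subgroup G} (D : ZassKer.Ker a b U)
    (hna : ∃ u ∈ U, ∃ v ∈ U, u * v ≠ v * u) : Cfsg.IsSuzuki G := by
  haveI : Fintype G := Fintype.ofFinite G
  obtain ⟨n, hodd, hn1, hU, he, -⟩ := structure_nonabelian D hna
  obtain ⟨m, rfl⟩ := hodd
  refine ⟨inferInstance, m, by omega, ?_⟩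
  rw [(Suz.of_ker D hna).card_group, hU, he, ← pow_mul, mul_comm (2 * m + 1) 2]
  ring

/-- The classification of simple Zassenhaus groups. -/
theorem classification (hZ : Cfsg.IsZassenhausGroup G Ω) [IsSimpleGroup G] :
    (∃ (F : Type) (_ : Field F) (_ : Fintype F),
      Nonempty (G ≃* Matrix.ProjectiveSpecialLinearGroup (Fin 2) F)) ∨ Cfsg.IsSuzuki G := by
  classical
  obtain ⟨g, -, a, b, hab, -, -⟩ := hZ.2.2.2.1
  obtain ⟨H, D⟩ := ZassKer.exists_ker hZ hab
  by_cases hna : ∃ u ∈ H, ∃ v ∈ H, u * v ≠ v * u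
  · exact Or.inr (isSuzuki D hna)
  push Not at hna
  left
  have A := D.ab hna
  rcases Nat.even_or_odd (Nat.card (two (G := G) a b)) with hev | hodd
  · obtain ⟨F, i1, i2, -, h⟩ := A.psl_of_simple hev
    exact ⟨F, i1, i2, h⟩
  rcases A.main with ⟨h3, hs⟩ | ⟨F, i1, i2, -, h⟩
  · rcases A.dichotomy with heq | ⟨heq, s, hs', -⟩
    · have hh : Even (Nat.card H) := by
        rw [heq] at hodd
        have := D.two_le
        obtain ⟨k, hk⟩ := hodd
        exact ⟨k + 1, by omega⟩
      obtain ⟨p, f, hp, hf, hpf⟩ := (isPrimePow_nat_iff _).mp D.isPrimePow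
      have hp2 : p = 2 := by
        rw [← hpf] at hh
        exact ((Nat.prime_dvd_prime_iff_eq Nat.prime_two hp).mp
          (Nat.prime_two.dvd_of_dvd_pow hh.two_dvd)).symm
      subst hp2
      have hcard : Nat.card Ω = 2 ^ f + 1 := by rw [Nat.card_eq_fintype_card, ← D.card, hpf]
      obtain ⟨e1⟩ := SharpEven.equiv_pgl hf hcard (SharpEven.sharp3_of_pretransitive h3 hs)
      haveI : Fintype (GaloisField 2 f) := Fintype.ofFinite _
      obtain ⟨e2⟩ := SharpEven.psl_equiv_pgl (F := GaloisField 2 f) (f := f)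
        (by rw [← Nat.card_eq_fintype_card, GaloisField.card 2 f (by omega)])
      exact ⟨GaloisField 2 f, inferInstance, inferInstance, ⟨e1.trans e2.symm⟩⟩
    · obtain ⟨F, i1, i2, φ, lam, hφ, hadd, hlam, hact⟩ := A.exists_field heq (by
        intro k hk l hl
        have hinv := A.inv_odd heq hodd hs'
        refine inv_injective ?_
        rw [← hinv _ (mul_mem hk hl), ← hinv _ (mul_mem hl hk)]
        calc s * (k * l) * s = (s * k * s) * (s * l * s) := by
              rw [show s * k * s * (s * l * s) = s * k * (s * s) * l * s by group, hs'.sq]; group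
          _ = (l * k)⁻¹ := by rw [hinv k hk, hinv l hl]; group
          _ = s * (l * k) * s := (hinv _ (mul_mem hl hk)).symm)
      exact ⟨F, i1, i2, (A.equiv_psl φ lam hφ hadd hlam hact heq hs' (A.inv_odd heq hodd hs')).2⟩
  · exact ⟨F, i1, i2, h⟩

end Cfsg.Agent.ZassSuz
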