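import Cfsg.Agent.Lib.Char.FrobeniusSchur
import Cfsg.Agent.Lib.Char.Induction
import Cfsg.Agent.Lib.Char.Complete

/-!
# The square root counting function and intersecting families
-/

set_option autoImplicit false
set_option linter.unusedSectionVars false

namespace Cfsg.Agent.ZassSuz

open Cfsg.Agent.Char
open scoped Classical ComplexConjugate

universe u

variable {G : Type u} [Group G] [Fintype G]

/-- The number of square roots. -/
noncomputable def sqCount (g : G) : ℂ := ((Finset.univ.filter fun y : G => y * y = g).card : ℂ)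

/-- The Frobenius-Schur indicator. -/
noncomputable def nu (χ : Cfsg.IrrCharacter G) : ℂ :=
  (Nat.card G : ℂ)⁻¹ * ∑ g : G, (χ : G → ℂ) (g * g)

theorem nu_cases (χ : Cfsg.IrrCharacter G) : nu χ = 0 ∨ nu χ = 1 ∨ nu χ = -1 := by
  rcases FSchur.irr_indicator χ with ⟨-, h⟩ | ⟨-, h | ⟨h, -⟩⟩
  exacts [Or.inl h, Or.inr (Or.inl h), Or.inr (Or.inr h)]

theorem nu_eq_one {χ : Cfsg.IrrCharacter G} (hreal : ∀ g, conj ((χ : G → ℂ) g) = (χ : G → ℂ) g)
    {d : ℕ} (hd : (χ : G → ℂ) 1 = d) (hodd : Odd d) : nu χ = 1 := by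
  rcases FSchur.irr_indicator χ with ⟨h, -⟩ | ⟨-, h | ⟨-, m, hm, hm'⟩⟩
  · exact absurd hreal h
  · exact h
  · rw [hd, Nat.cast_inj] at hm'
    exact absurd (hm' ▸ hm) (Nat.not_even_iff_odd.mpr hodd)

/-- The indicator as an integer. -/
noncomputable def nuZ (χ : Cfsg.IrrCharacter G) : ℤ :=
  if nu χ = 1 then 1 else if nu χ = -1 then -1 else 0

theorem nuZ_cast (χ : Cfsg.IrrCharacter G) : (nuZ χ : ℂ) = nu χ := by
  rcases nu_cases χ with h | h | h <;> simp [nuZ, h]
  norm_num

theorem nuZ_abs (χ : Cfsg.IrrCharacter G) : nuZ χ = 0 ∨ nuZ χ = 1 ∨ nuZ χ = -1 := by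
  unfold nuZ; split_ifs <;> simp

theorem isClassFunction_sqCount : Cfsg.IsClassFunction G (sqCount : G → ℂ) := by
  intro g y
  simp only [sqCount, Nat.cast_inj]
  refine (Finset.card_equiv (MulAut.conj y).toEquiv fun x => ?_).symm
  simp only [Finset.mem_filter, Finset.mem_univ, true_and, MulEquiv.toEquiv_eq_coe, EquivLike.coe_coe,
    ← map_mul]
  exact ((MulAut.conj y).injective.eq_iff).symm

theorem classInner_sqCount (χ : Cfsg.IrrCharacter G) : Cfsg.classInner sqCount (χ : G → ℂ) = nu χ := by
  have h : ∑ g : G, sqCount g * conj ((χ : G → ℂ) g) = ∑ y : G, conj ((χ : G → ℂ) (y * y)) := by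
    refine Eq.trans ?_ (Finset.sum_fiberwise_of_maps_to (s := (Finset.univ : Finset G)) (t := Finset.univ)
      (g := fun y => y * y) (fun _ _ => Finset.mem_univ _) _)
    refine Finset.sum_congr rfl fun g _ => ?_
    rw [Finset.sum_congr rfl (fun y hy => by rw [(Finset.mem_filter.mp hy).2]), Finset.sum_const,
      nsmul_eq_mul]
    rfl
  have h2 : conj (nu χ) = Cfsg.classInner sqCount (χ : G → ℂ) := by
    rw [Cfsg.classInner, h, nu, map_mul, map_inv₀, map_natCast, map_sum]
  rw [← h2]
  rcases nu_cases χ with h | h | h <;> simp [h]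

theorem inner_eq_sum {f f' : G → ℂ} (hf : Cfsg.IsClassFunction G f) (hf' : Cfsg.IsClassFunction G f')
    (A A' : Cfsg.IrrCharacter G → ℤ) (hA : ∀ χ : Cfsg.IrrCharacter G, Cfsg.classInner f (χ : G → ℂ) = A χ)
    (hA' : ∀ χ : Cfsg.IrrCharacter G, Cfsg.classInner f' (χ : G → ℂ) = A' χ) :
    Cfsg.classInner f f' = ((∑ χ, A χ * A' χ : ℤ) : ℂ) := by
  conv_lhs => rw [classFunction_eq_sum hf, classFunction_eq_sum hf']
  rw [classInner_combination₂, Int.cast_sum]
  exact Finset.sum_congr rfl fun χ _ => by rw [hA, hA', map_intCast, Int.cast_mul]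

theorem inner_sqCount {f : G → ℂ} (hf : Cfsg.IsClassFunction G f)
    (A : Cfsg.IrrCharacter G → ℤ) (hA : ∀ χ : Cfsg.IrrCharacter G, Cfsg.classInner f (χ : G → ℂ) = A χ) :
    Cfsg.classInner f sqCount = ((∑ χ, A χ * nuZ χ : ℤ) : ℂ) :=
  inner_eq_sum hf isClassFunction_sqCount A nuZ hA fun χ => by rw [nuZ_cast, classInner_sqCount]

/-- A family of more than `N + 1` sets of size `N` meeting pairwise in `N - 1` points has a common core. -/
theorem sunflower {α ι : Type*} [DecidableEq α] [Fintype ι] [DecidableEq ι] (S : ι → Finset α) (N : ℕ)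
    (hN : 2 ≤ N) (hc : ∀ i, (S i).card = N) (hm : ∀ i j, i ≠ j → (S i ∩ S j).card + 1 = N)
    (hι : N + 1 < Fintype.card ι) :
    ∃ (C : Finset α) (A : ι → α), Function.Injective A ∧ ∀ i, A i ∉ C ∧ S i = insert (A i) C := by
  have hne : ∀ i j, i ≠ j → S i ≠ S j := fun i j hij e => by
    have := hm i j hij
    rw [e, Finset.inter_self, hc] at this
    omega
  obtain ⟨p, q, hpq⟩ := Fintype.exists_pair_of_one_lt_card (α := ι) (by omega)
  set C := S p ∩ S q with hC
  have hCc : C.card + 1 = N := hm p q hpq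
  have hU : (S p ∪ S q).card = N + 1 := by
    have := Finset.card_union_add_card_inter (S p) (S q)
    rw [hc, hc, ← hC] at this
    omega
  obtain ⟨l, hl⟩ : ∃ l, ¬ S l ⊆ S p ∪ S q := by
    by_contra hcon
    push Not at hcon
    have h1 : (Finset.univ.image S).card ≤ ((S p ∪ S q).powersetCard N).card :=
      Finset.card_le_card fun X hX => by
        obtain ⟨i, -, rfl⟩ := Finset.mem_image.mp hX
        exact Finset.mem_powersetCard.mpr ⟨hcon i, hc i⟩
    rw [Finset.card_image_of_injective _ (fun i j e => by_contra fun h => hne i j h e), Finset.card_powersetCard,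
      hU, Finset.card_univ, Nat.choose_succ_self_right] at h1
    omega
  have hlp : l ≠ p := fun e => hl (e ▸ Finset.subset_union_left)
  have hlq : l ≠ q := fun e => hl (e ▸ Finset.subset_union_right)
  have hlt : (S l ∩ (S p ∪ S q)).card + 1 ≤ N := by
    rw [← hc l]
    exact Finset.card_lt_card (Finset.ssubset_iff_subset_ne.mpr ⟨Finset.inter_subset_left,
      fun e => hl (Finset.inter_eq_left.mp e)⟩)
  have hCl : C ⊆ S l := by
    have e1 : S l ∩ S p = S l ∩ (S p ∪ S q) := Finset.eq_of_subset_of_card_le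
      (Finset.inter_subset_inter_left Finset.subset_union_left) (by have := hm l p hlp; omega)
    have e2 : S l ∩ S q = S l ∩ (S p ∪ S q) := Finset.eq_of_subset_of_card_le
      (Finset.inter_subset_inter_left Finset.subset_union_right) (by have := hm l q hlq; omega)
    have hsub : S l ∩ S p ⊆ C := Finset.subset_inter Finset.inter_subset_right
      (e1.trans e2.symm ▸ Finset.inter_subset_right)
    rw [← Finset.eq_of_subset_of_card_le hsub (by have := hm l p hlp; omega)]
    exact Finset.inter_subset_left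
  have hall : ∀ i, C ⊆ S i := by
    intro i
    by_contra hi
    have hip : i ≠ p := fun e => hi (e ▸ Finset.inter_subset_left)
    have hiq : i ≠ q := fun e => hi (e ▸ Finset.inter_subset_right)
    have hil : i ≠ l := fun e => hi (e ▸ hCl)
    have hIC : (S i ∩ C).card + 2 ≤ N := by
      rcases (Finset.card_le_card (Finset.inter_subset_right (s₁ := S i) (s₂ := C))).eq_or_lt with e | e
      · exact absurd (Finset.inter_eq_right.mp (Finset.eq_of_subset_of_card_le Finset.inter_subset_right
          (le_of_eq e.symm))) hi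
      · omega
    have key : ∀ r, C ⊆ S r → i ≠ r →
        (S i ∩ (S r \ C)).card = 1 ∧ (S i ∩ C).card + 2 = N := by
      intro r hr hir
      have h1 := hm i r hir
      have h2 : (S i ∩ S r).card = (S i ∩ C).card + (S i ∩ (S r \ C)).card := by
        rw [← Finset.card_union_of_disjoint (Finset.disjoint_of_subset_left Finset.inter_subset_right
          (Finset.disjoint_of_subset_right Finset.inter_subset_right Finset.disjoint_sdiff)),
          ← Finset.inter_union_distrib_left, Finset.union_sdiff_of_subset hr]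
      have h3 : (S i ∩ (S r \ C)).card ≤ 1 := (Finset.card_le_card Finset.inter_subset_right).trans (by
        rw [Finset.card_sdiff_of_subset hr, hc]; omega)
      omega
    obtain ⟨kp, hkC⟩ := key p Finset.inter_subset_left hip
    obtain ⟨kq, -⟩ := key q Finset.inter_subset_right hiq
    obtain ⟨kl, -⟩ := key l hCl hil
    have hd : ∀ r r', C ⊆ S r → C ⊆ S r' → r ≠ r' → Disjoint (S i ∩ (S r \ C)) (S i ∩ (S r' \ C)) := by
      intro r r' hr hr' hrr
      have heq : S r ∩ S r' = C := (Finset.eq_of_subset_of_card_le (Finset.subset_inter hr hr')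
        (by have := hm r r' hrr; omega)).symm
      rw [Finset.disjoint_left]
      intro x hx hx'
      simp only [Finset.mem_inter, Finset.mem_sdiff] at hx hx'
      exact hx.2.2 (heq ▸ Finset.mem_inter.mpr ⟨hx.2.1, hx'.2.1⟩)
    have hbig : ((S i ∩ C) ∪ ((S i ∩ (S p \ C)) ∪ (S i ∩ (S q \ C)) ∪ (S i ∩ (S l \ C)))).card ≤ N := by
      rw [← hc i]
      exact Finset.card_le_card (by intro x; simp only [Finset.mem_union, Finset.mem_inter]; tauto)
    rw [Finset.card_union_of_disjoint (by
        rw [Finset.disjoint_left]; intro x; simp only [Finset.mem_union, Finset.mem_inter, Finset.mem_sdiff]; tauto),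
      Finset.card_union_of_disjoint (Finset.disjoint_union_left.mpr
        ⟨hd p l Finset.inter_subset_left hCl hlp.symm, hd q l Finset.inter_subset_right hCl hlq.symm⟩),
      Finset.card_union_of_disjoint (hd p q Finset.inter_subset_left Finset.inter_subset_right hpq)] at hbig
    omega
  have h1 : ∀ i, ∃ x, S i \ C = {x} := fun i => Finset.card_eq_one.mp (by
    rw [Finset.card_sdiff_of_subset (hall i), hc]; omega)
  choose A hA using h1
  have hins : ∀ i, A i ∉ C ∧ S i = insert (A i) C := fun i => by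
    refine ⟨(Finset.mem_sdiff.mp ((hA i).symm ▸ Finset.mem_singleton_self _ : A i ∈ S i \ C)).2, ?_⟩
    rw [Finset.insert_eq, ← hA i, Finset.sdiff_union_of_subset (hall i)]
  refine ⟨C, A, fun i j e => by_contra fun h => hne i j h ?_, hins⟩
  rw [(hins i).2, (hins j).2, e]

end Cfsg.Agent.ZassSuz
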