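import Cfsg.Agent.Lib.ZassSuz.Setup
import Cfsg.Agent.Lib.Char.Complete
import Cfsg.Agent.Lib.Char.DegreeCenter

/-!
# Linear characters and nontrivial central characters of the kernel
-/

set_option autoImplicit false
set_option linter.style.haveILetI false
set_option linter.unusedSectionVars false

namespace Cfsg.Agent.ZassSuz

open Cfsg.Agent.Zass Cfsg.Agent.Char MulAction
open scoped Classical ComplexConjugate

universe u v

variable {G : Type u} [Group G] [Fintype G] {Ω : Type v} [MulAction G Ω] [Fintype Ω]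

namespace Suz

variable {a b : Ω} {H : Subgroup G} (S : Suz a b H)
include S

theorem V_normal : S.V.Normal := ⟨fun v hv g => by
  rw [Subgroup.mem_center_iff.mp (S.V_central hv) g, mul_inv_cancel_right]; exact hv⟩

theorem comm_mod (x y : H) : x⁻¹ * y⁻¹ * x * y ∈ S.V := by
  have h := S.datum.comm_mem_V S.hna' x⁻¹ y⁻¹
  rwa [inv_inv, inv_inv] at h

/-- A homomorphism killing the involutions and fixed by a nontrivial element is trivial. -/
theorem eq_one_of_fixed {A : Type*} [CommGroup A] (f : H →* A) (hf : ∀ v ∈ S.V, f v = 1)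
    {k : two (G := G) a b} (hk : k ≠ 1) (hfix : ∀ x, f (S.act k x) = f x) : f = 1 := by
  haveI := S.V_normal
  let g : H ⧸ S.V → H ⧸ S.V := fun c => ((c.out⁻¹ * S.act k c.out : H) : H ⧸ S.V)
  have hinj : Function.Injective g := by
    intro c d h
    have h' := QuotientGroup.eq.mp h
    rw [← QuotientGroup.out_eq' c, ← QuotientGroup.out_eq' d, QuotientGroup.eq]
    refine S.act_free_mod hk ?_
    have e : ((c.out)⁻¹ * d.out)⁻¹ * S.act k ((c.out)⁻¹ * d.out) =
        ((d.out)⁻¹ * (c.out * (S.act k c.out)⁻¹) * ((d.out)⁻¹)⁻¹ * (c.out * (S.act k c.out)⁻¹)⁻¹) *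
          ((c.out * ((S.act k c.out)⁻¹ * c.out) * c.out⁻¹ * ((S.act k c.out)⁻¹ * c.out)⁻¹) *
            ((c.out⁻¹ * S.act k c.out)⁻¹ * (d.out⁻¹ * S.act k d.out))) := by
      rw [map_mul, map_inv]
      group
    rw [e]
    exact mul_mem (S.datum.comm_mem_V S.hna' _ _) (mul_mem (S.datum.comm_mem_V S.hna' _ _) h')
  refine MonoidHom.ext fun x => ?_
  obtain ⟨c, hc⟩ := Finite.injective_iff_surjective.mp hinj (x : H ⧸ S.V)
  have hx := hf _ (QuotientGroup.eq.mp hc)
  rw [map_mul, map_inv, map_mul, map_inv, hfix, inv_mul_cancel, inv_one, one_mul] at hx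
  exact hx

/-- Representatives of the orbits of nontrivial linear characters killing the involutions. -/
theorem exists_lams : ∃ (ι : Type u) (_ : Fintype ι) (lam : ι → (H →* ℂˣ)),
    (Fintype.card ι * Nat.card (two (G := G) a b) + 1) * (Nat.card (two (G := G) a b) + 1) = Nat.card H ∧
    (∀ i, lam i ≠ 1) ∧ (∀ i, ∀ v ∈ S.V, lam i v = 1) ∧
    ∀ i j k, (∀ x, lam i (S.act k x) = lam j x) → i = j ∧ k = 1 := by
  haveI := S.V_normal
  letI : CommGroup (H ⧸ S.V) :=
    { (inferInstance : Group (H ⧸ S.V)) with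
      mul_comm := fun c d => by
        obtain ⟨x, rfl⟩ := QuotientGroup.mk_surjective c
        obtain ⟨y, rfl⟩ := QuotientGroup.mk_surjective d
        rw [← QuotientGroup.mk_mul, ← QuotientGroup.mk_mul, QuotientGroup.eq, mul_inv_rev]
        simpa [mul_assoc] using S.comm_mod y x }
  haveI : NeZero (Monoid.exponent (H ⧸ S.V) : ℂ) :=
    ⟨Nat.cast_ne_zero.mpr Monoid.exponent_ne_zero_of_finite⟩
  let L := {f : H →* ℂˣ // f ≠ 1 ∧ ∀ v ∈ S.V, f v = 1}
  letI act' : MulAction (two (G := G) a b) L :=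
    { smul := fun k f => ⟨f.1.comp (S.act k⁻¹).toMonoidHom, fun e => f.2.1 (MonoidHom.ext fun x => by
          obtain ⟨y, rfl⟩ := (S.act k⁻¹).surjective x
          exact DFunLike.congr_fun e y), fun v hv => f.2.2 _ (S.act_mem _ hv)⟩
      one_smul := fun f => Subtype.ext (MonoidHom.ext fun x => by
        show f.1 (S.act (1 : two (G := G) a b)⁻¹ x) = f.1 x
        rw [inv_one, map_one]; rfl)
      mul_smul := fun k l f => Subtype.ext (MonoidHom.ext fun x => by
        show f.1 (S.act (k * l)⁻¹ x) = f.1 (S.act l⁻¹ (S.act k⁻¹ x))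
        rw [mul_inv_rev, map_mul]; rfl) }
  have hsmul : ∀ (k : two (G := G) a b) (f : L) (x : H), (k • f).1 x = f.1 (S.act k⁻¹ x) := fun _ _ _ => rfl
  have hfree : ∀ f : L, stabilizer (two (G := G) a b) f = ⊥ := fun f => by
    rw [Subgroup.eq_bot_iff_forall]
    intro k hk
    by_contra hk1
    refine f.2.1 (S.eq_one_of_fixed f.1 f.2.2 (k := k⁻¹) (fun e => hk1 (inv_eq_one.mp e)) fun x => ?_)
    rw [← hsmul, mem_stabilizer_iff.mp hk]
  let toQ : {f : H →* ℂˣ // ∀ v ∈ S.V, f v = 1} ≃ (H ⧸ S.V →* ℂˣ) :=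
    { toFun := fun f => QuotientGroup.lift S.V f.1 fun v hv => f.2 v hv
      invFun := fun g => ⟨g.comp (QuotientGroup.mk' S.V), fun v hv => by
        simp [(QuotientGroup.eq_one_iff v).mpr hv]⟩
      left_inv := fun f => Subtype.ext (MonoidHom.ext fun x => rfl)
      right_inv := fun g => MonoidHom.ext fun c => by
        obtain ⟨x, rfl⟩ := QuotientGroup.mk_surjective c
        rfl }
  have hall : Nat.card {f : H →* ℂˣ // ∀ v ∈ S.V, f v = 1} * Nat.card S.V = Nat.card H := by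
    rw [Nat.card_congr toQ, CommGroup.card_monoidHom_of_hasEnoughRootsOfUnity,
      ← Subgroup.card_eq_card_quotient_mul_card_subgroup]
  haveI : Finite {f : H →* ℂˣ // ∀ v ∈ S.V, f v = 1} := Nat.finite_of_card_ne_zero fun h => by
    rw [h, zero_mul] at hall
    exact Nat.card_pos.ne hall
  have hL : Nat.card L + 1 = Nat.card {f : H →* ℂˣ // ∀ v ∈ S.V, f v = 1} := by
    haveI := Fintype.ofFinite {f : H →* ℂˣ // ∀ v ∈ S.V, f v = 1}
    let one' : {f : H →* ℂˣ // ∀ v ∈ S.V, f v = 1} := ⟨1, fun _ _ => rfl⟩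
    have e : Nat.card L = Nat.card {f : {f : H →* ℂˣ // ∀ v ∈ S.V, f v = 1} // f ≠ one'} := Nat.card_congr
      { toFun := fun f => ⟨⟨f.1, f.2.2⟩, fun h => f.2.1 (congrArg Subtype.val h)⟩
        invFun := fun f => ⟨f.1.1, fun h => f.2 (Subtype.ext h), f.1.2⟩
        left_inv := fun _ => rfl
        right_inv := fun _ => rfl }
    rw [e, Nat.card_eq_fintype_card, Fintype.card_subtype_compl, Fintype.card_subtype_eq,
      Nat.card_eq_fintype_card]
    have : 0 < Fintype.card {f : H →* ℂˣ // ∀ v ∈ S.V, f v = 1} := Fintype.card_pos_iff.mpr ⟨one'⟩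
    omega
  haveI : Finite L := Nat.finite_of_card_ne_zero (α := L) (by
    intro h
    rw [h, zero_add] at hL
    rw [← hL, one_mul, S.card_V] at hall
    have := S.big
    omega)
  have horb := Nat.card_congr (MulAction.selfEquivOrbitsQuotientProd hfree)
  rw [Nat.card_prod] at horb
  haveI : Fintype (Quotient (orbitRel (two (G := G) a b) L)) := Fintype.ofFinite _
  refine ⟨Quotient (orbitRel (two (G := G) a b) L), inferInstance, fun o => o.out.1, ?_,
    fun o => o.out.2.1, fun o => o.out.2.2, fun i j k h => ?_⟩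
  · rw [← Nat.card_eq_fintype_card, ← horb, hL, ← S.card_V, hall]
  · have e : k⁻¹ • i.out = j.out := Subtype.ext (MonoidHom.ext fun x => by rw [hsmul, inv_inv, h])
    have hij : i = j := by
      rw [← Quotient.out_eq i, ← Quotient.out_eq j]
      exact (Quotient.sound (orbitRel_apply.mpr ⟨k⁻¹, e⟩)).symm
    subst hij
    refine ⟨rfl, inv_eq_one.mp ?_⟩
    rw [← Subgroup.mem_bot, ← hfree i.out]
    exact e

theorem exists_central (ψ : Cfsg.IrrCharacter H) {v : H} (hv : v ∈ S.V) :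
    ∃ c : ℂ, ‖c‖ = 1 ∧ ∀ g, (ψ : H → ℂ) (v * g) = c * (ψ : H → ℂ) g := by
  obtain ⟨c, h1, h2, -⟩ := IsIrrCharacter.exists_central_scalar ψ.2 (S.V_central hv)
  exact ⟨c, h1, h2⟩

theorem sum_V (ψ : Cfsg.IrrCharacter H) {v₀ : H} (hv₀ : v₀ ∈ S.V)
    (hne : (ψ : H → ℂ) v₀ ≠ (ψ : H → ℂ) 1) : ∑ v : S.V, (ψ : H → ℂ) v = 0 := by
  obtain ⟨c, -, hc⟩ := S.exists_central ψ hv₀
  have h : ∑ v : S.V, (ψ : H → ℂ) v = c * ∑ v : S.V, (ψ : H → ℂ) v := by
    rw [Finset.mul_sum]
    exact (Fintype.sum_equiv (Equiv.mulLeft (⟨v₀, hv₀⟩ : S.V)) _ _ fun v => (hc v).symm).symm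
  have hc1 : c ≠ 1 := fun e => hne (by
    have := hc 1
    rwa [mul_one, e, one_mul] at this)
  by_contra h0
  exact hc1 (mul_right_cancel₀ h0 (h.symm.trans (one_mul _).symm))

theorem degree_sq_le (ψ : Cfsg.IrrCharacter H) {m : ℕ} (hm : (ψ : H → ℂ) 1 = m) :
    m ^ 2 * Nat.card S.V ≤ Nat.card H := by
  have h := classInner_self_irr ψ.2
  rw [classInner_self_eq] at h
  have h' : (Nat.card H : ℝ) = ∑ g : H, ‖(ψ : H → ℂ) g‖ ^ 2 :=
    (inv_mul_eq_one₀ (Nat.cast_ne_zero.mpr Nat.card_pos.ne')).mp (by exact_mod_cast h)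
  have hle : ∑ g ∈ Finset.univ.filter (fun g => g ∈ S.V), ‖(ψ : H → ℂ) g‖ ^ 2 ≤
      ∑ g : H, ‖(ψ : H → ℂ) g‖ ^ 2 :=
    Finset.sum_le_sum_of_subset_of_nonneg (Finset.subset_univ _) fun _ _ _ => by positivity
  have hval : ∀ g ∈ Finset.univ.filter (fun g => g ∈ S.V), ‖(ψ : H → ℂ) g‖ ^ 2 = (m : ℝ) ^ 2 := by
    intro g hg
    obtain ⟨c, hc1, hc⟩ := S.exists_central ψ (Finset.mem_filter.mp hg).2
    rw [← mul_one g, hc, norm_mul, hc1, one_mul, hm, Complex.norm_natCast]
  rw [Finset.sum_congr rfl hval, Finset.sum_const, nsmul_eq_mul, ← Fintype.card_subtype,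
    ← Nat.card_eq_fintype_card, ← h'] at hle
  have h2 : ((m ^ 2 * Nat.card S.V : ℕ) : ℝ) ≤ (Nat.card H : ℝ) := by
    push_cast
    rw [mul_comm]
    exact hle
  exact_mod_cast h2

theorem central_not_fixed (ψ : Cfsg.IrrCharacter H) {v₀ : H} (hv₀ : v₀ ∈ S.V)
    (hne : (ψ : H → ℂ) v₀ ≠ (ψ : H → ℂ) 1) {k : two (G := G) a b} (hk : k ≠ 1) :
    (fun x => (ψ : H → ℂ) (S.act k x)) ≠ (ψ : H → ℂ) := by
  intro he
  let g : S.V → S.V := fun v => ⟨(v : H)⁻¹ * S.act k v, mul_mem (inv_mem v.2) (S.act_mem k v.2)⟩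
  have hinj : Function.Injective g := by
    intro v w h
    have h' : (v : H)⁻¹ * S.act k v = (w : H)⁻¹ * S.act k w := congrArg Subtype.val h
    refine Subtype.ext ?_
    by_contra hvw
    refine hk (S.act_free (u := (w : H) * (v : H)⁻¹) (fun e => hvw (mul_inv_eq_one.mp e).symm) ?_)
    rw [map_mul, map_inv]
    have h2 : S.act k w = (w : H) * ((v : H)⁻¹ * S.act k v) := by rw [h', mul_inv_cancel_left]
    rw [h2]
    group
  obtain ⟨w, hw⟩ := Finite.injective_iff_surjective.mp hinj ⟨v₀, hv₀⟩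
  have hw' : v₀ = (w : H)⁻¹ * S.act k w := (congrArg Subtype.val hw).symm
  apply hne
  obtain ⟨c, hc1, hc⟩ := S.exists_central ψ (inv_mem w.2)
  rw [hw', hc, congrFun he w, ← hc, inv_mul_cancel]

end Suz

end Cfsg.Agent.ZassSuz
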