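import Cfsg.Agent.Lib.ZassSuz.Induced
import Cfsg.Agent.Lib.ZassSuz.Lambda

/-!
# The kernel does not have order `q ^ 3`
-/

set_option autoImplicit false
set_option linter.style.haveILetI false
set_option linter.unusedSectionVars false

namespace Cfsg.Agent.ZassSuz

open Cfsg.Agent.Zass Cfsg.Agent.Char MulAction
open scoped Classical ComplexConjugate

universe u v

theorem sq_ge {x n : ℤ} (hn : n = 0 ∨ n = 1 ∨ n = -1) : x * n ≤ x * x ∧ -(x * x) ≤ x * n := by
  have h : 0 ≤ x * (x - 1) ∧ 0 ≤ x * (x + 1) := by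
    constructor <;> rcases lt_trichotomy x 0 with h | h | h <;> nlinarith
  rcases hn with rfl | rfl | rfl <;> constructor <;> nlinarith [mul_self_nonneg x]

theorem eq_zero_or {x n : ℤ} (hn : n = 0 ∨ n = 1 ∨ n = -1) (h : x * x ≤ x * n) : x = 0 ∨ x = n := by
  by_cases hx : x = 0
  · exact Or.inl hx
  right
  have h1 : 1 ≤ x * x := by nlinarith [mul_self_pos.mpr hx]
  rcases hn with rfl | rfl | rfl
  · linarith
  · have : x * (x - 1) ≤ 0 := by nlinarith
    rcases lt_trichotomy x 0 with h' | h' | h' <;> nlinarith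
  · have : x * (x + 1) ≤ 0 := by nlinarith
    rcases lt_trichotomy x 0 with h' | h' | h' <;> nlinarith

variable {G : Type u} [Group G] [Fintype G] {Ω : Type v} [MulAction G Ω] [Fintype Ω]

namespace Suz

variable {a b : Ω} {H : Subgroup G} (S : Suz a b H)
include S

/-- An irreducible character of the kernel composed with the action. -/
noncomputable def twist (k : two (G := G) a b) (ψ : Cfsg.IrrCharacter H) : Cfsg.IrrCharacter H :=
  ⟨fun x => (ψ : H → ℂ) (S.act k x),
    IsIrrCharacter.comp ψ.2 (S.act k).toMonoidHom (S.act k).surjective⟩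

theorem twist_inner (k : two (G := G) a b) (ψ φ : Cfsg.IrrCharacter H) :
    Cfsg.classInner (ψ : H → ℂ) (fun x => (φ : H → ℂ) (S.act k x)) =
      if ψ = S.twist k φ then 1 else 0 := by
  show Cfsg.classInner (ψ : H → ℂ) (S.twist k φ : H → ℂ) = _
  rw [classInner_irr ψ.2 (S.twist k φ).2]
  simp only [Subtype.ext_iff]

theorem twist_one (φ : Cfsg.IrrCharacter H) : S.twist 1 φ = φ :=
  Subtype.ext (funext fun x => by simp [twist])

theorem twist_oneIrr (k : two (G := G) a b) : S.twist k (oneIrr H) = oneIrr H := rfl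

theorem inner_pair {c d : ℕ} {ψ lam φ mu : Cfsg.IrrCharacter H}
    (h0 : (ψ : H → ℂ) 1 = (c : ℂ) * (lam : H → ℂ) 1) :
    Cfsg.classInner (Cfsg.indFun H ((ψ : H → ℂ) - (c : ℂ) • (lam : H → ℂ)))
        (Cfsg.indFun H ((φ : H → ℂ) - (d : ℂ) • (mu : H → ℂ))) =
      ∑ k : two (G := G) a b, (((if ψ = S.twist k φ then 1 else 0) - (d : ℂ) * (if ψ = S.twist k mu then 1 else 0)) -
        (c : ℂ) * ((if lam = S.twist k φ then 1 else 0) - (d : ℂ) * (if lam = S.twist k mu then 1 else 0))) := by
  have hcl : Cfsg.IsClassFunction H ((φ : H → ℂ) - (d : ℂ) • (mu : H → ℂ)) := fun x y => by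
    simp only [Pi.sub_apply, Pi.smul_apply,
      IsCharacter.isClassFunction (IsIrrCharacter.isCharacter φ.2) x y,
      IsCharacter.isClassFunction (IsIrrCharacter.isCharacter mu.2) x y]
  rw [S.inner_ind_zero (by simp [h0]) hcl]
  refine Finset.sum_congr rfl fun k _ => ?_
  rw [show (fun x => ((φ : H → ℂ) - (d : ℂ) • (mu : H → ℂ)) (S.act k x)) =
      (fun x => (φ : H → ℂ) (S.act k x)) - (d : ℂ) • (fun x => (mu : H → ℂ) (S.act k x)) from rfl,
    classInner_sub_left, classInner_smul_left, classInner_sub_right, classInner_sub_right,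
    classInner_smul_right, classInner_smul_right, S.twist_inner, S.twist_inner, S.twist_inner, S.twist_inner,
    map_natCast]

theorem sqCount_eq_zero {u : H} (hu : u ∉ S.V) : sqCount (u : G) = 0 := by
  simp only [sqCount, Nat.cast_eq_zero, Finset.card_eq_zero, Finset.filter_eq_empty_iff]
  intro y _ hy
  have hu1 : (u : G) ≠ 1 := fun e => hu (by rw [show u = 1 from Subtype.ext e]; exact one_mem _)
  have hyH : y ∈ H := S.toData.centralizer_le u.2 hu1 (Subgroup.mem_centralizer_singleton_iff.mpr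
    (by rw [← hy, mul_assoc]))
  exact hu ((Subtype.ext hy : (⟨y, hyH⟩ : H) * ⟨y, hyH⟩ = u) ▸ S.sq_mem _)

theorem sqCount_mul {z : H} (hz : z ∈ S.V) (hz1 : z ≠ 1) :
    sqCount (z : G) * (Nat.card (two (G := G) a b) : ℂ) + ((Nat.card (two (G := G) a b) : ℂ) + 1) =
      (Nat.card H : ℂ) := by
  have h1 : (z : G) ≠ 1 := fun e => hz1 (Subtype.ext e)
  have hcard : (Finset.univ.filter fun y : G => y * y = (z : G)).card = Nat.card {x : H // x * x = z} := by
    rw [← Fintype.card_subtype, ← Nat.card_eq_fintype_card]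
    refine Nat.card_congr
      { toFun := fun y => ⟨⟨y.1, S.toData.centralizer_le z.2 h1 (Subgroup.mem_centralizer_singleton_iff.mpr
          (by obtain ⟨w, hw⟩ := y; show w * _ = _ * w; rw [← hw, mul_assoc]))⟩, Subtype.ext y.2⟩
        invFun := fun x => ⟨(x.1 : G), congrArg Subtype.val x.2⟩
        left_inv := fun _ => rfl
        right_inv := fun _ => rfl }
  rw [sqCount, hcard, ← S.card_roots hz hz1]
  push_cast
  rfl

theorem inner_ind_sqCount {f : H → ℂ} (h0 : f 1 = 0) :
    Cfsg.classInner (Cfsg.indFun H f) sqCount * (Nat.card H : ℂ) * (Nat.card (two (G := G) a b) : ℂ) =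
      ((Nat.card H : ℂ) - ((Nat.card (two (G := G) a b) : ℂ) + 1)) * ∑ v : S.V, f v := by
  rw [classInner_indFun_left _ _ isClassFunction_sqCount, Cfsg.classInner]
  have hterm : ∀ x : H, f x * conj (sqCount (x : G)) * (Nat.card (two (G := G) a b) : ℂ) =
      if x ∈ S.V then ((Nat.card H : ℂ) - ((Nat.card (two (G := G) a b) : ℂ) + 1)) * f x else 0 := by
    intro x
    have hreal : conj (sqCount (x : G)) = sqCount (x : G) := map_natCast _ _
    rw [hreal]
    split_ifs with hx
    · rcases eq_or_ne x 1 with rfl | hx1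
      · simp [h0]
      · rw [← S.sqCount_mul hx hx1]; ring
    · rw [S.sqCount_eq_zero hx, mul_zero, zero_mul]
  have hh : (Nat.card H : ℂ) ≠ 0 := Nat.cast_ne_zero.mpr Nat.card_pos.ne'
  have h := Finset.sum_congr (s₁ := (Finset.univ : Finset H)) rfl fun x _ => hterm x
  rw [← Finset.sum_mul, ← Finset.sum_filter, ← Finset.mul_sum] at h
  rw [← Finset.sum_subtype (Finset.univ.filter fun x => x ∈ S.V) (p := fun x => x ∈ S.V) (fun x => by simp) f, ← h]
  field_simp

theorem not_cube : Nat.card H ≠ (Nat.card (two (G := G) a b) + 1) ^ 3 := by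
  intro hk
  haveI := S.simple
  set e := Nat.card (two (G := G) a b) with he
  have he3 := S.toData.three_le_e
  rw [← he] at he3
  obtain ⟨P, hP, hPone, hPnu, hPu, hPdeg⟩ := S.exists_known
  rw [← he] at hP
  obtain ⟨ι, _, lam, hι, hlam1, hlamV, hlamfree⟩ := S.exists_lams
  rw [← he, hk] at hι
  have hι' : Fintype.card ι = e + 2 := by
    have h1 : Fintype.card ι * e + 1 = (e + 1) ^ 2 := by
      refine Nat.eq_of_mul_eq_mul_right (by omega : 0 < e + 1) (hι.trans ?_)
      ring
    refine Nat.eq_of_mul_eq_mul_right (by omega : 0 < e) ?_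
    linarith [h1, show (e + 1) ^ 2 = (e + 2) * e + 1 by ring]
  let Λ : ι → Cfsg.IrrCharacter H := fun i => ⟨fun x => (lam i x : ℂ), isIrrCharacter_linear (lam i)⟩
  have hΛapply : ∀ i x, (Λ i : H → ℂ) x = (lam i x : ℂ) := fun _ _ => rfl
  have hΛone : ∀ i, (Λ i : H → ℂ) 1 = 1 := fun i => by simp [hΛapply]
  have hΛV : ∀ i, ∀ v ∈ S.V, (Λ i : H → ℂ) v = 1 := fun i v hv => by simp [hΛapply, hlamV i v hv]
  have hΛne : ∀ i, Λ i ≠ oneIrr H := fun i h => hlam1 i (MonoidHom.ext fun x => Units.ext (by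
    simpa [hΛapply, oneIrr] using congrFun (congrArg Subtype.val h) x))
  have hΛtw : ∀ i j k, Λ i = S.twist k (Λ j) → i = j ∧ k = 1 := fun i j k h => by
    obtain ⟨h1, h2⟩ := hlamfree j i k fun x => Units.ext (congrFun (congrArg Subtype.val h.symm) x)
    exact ⟨h1.symm, h2⟩
  let A : ι → Cfsg.IrrCharacter G → ℤ := fun i χ =>
    (mult χ (Λ i) : ℤ) - ((1 : ℕ) : ℤ) * mult χ (oneIrr H)
  let F : ι → G → ℂ := fun i => Cfsg.indFun H ((Λ i : H → ℂ) - ((1 : ℕ) : ℂ) • (oneIrr H : H → ℂ))
  have hA : ∀ i, ∀ χ : Cfsg.IrrCharacter G, Cfsg.classInner (F i) (χ : G → ℂ) = A i χ :=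
    fun i χ => inner_ind_irr _ _ _ χ
  have hFc : ∀ i, Cfsg.IsClassFunction G (F i) := fun i => isClassFunction_indFun _ _
  have hgram : ∀ i j, (∑ χ, A i χ * A j χ : ℤ) = e + if i = j then 1 else 0 := by
    intro i j
    have h : Cfsg.classInner (F i) (F j) = _ := inner_eq_sum (hFc i) (hFc j) (A i) (A j) (hA i) (hA j)
    rw [S.inner_pair (by rw [hΛone]; simp [oneIrr])] at h
    have hterm : ∀ k : two (G := G) a b,
        ((if Λ i = S.twist k (Λ j) then (1 : ℂ) else 0) -
            ((1 : ℕ) : ℂ) * (if Λ i = S.twist k (oneIrr H) then 1 else 0)) -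
          ((1 : ℕ) : ℂ) * ((if oneIrr H = S.twist k (Λ j) then 1 else 0) -
            ((1 : ℕ) : ℂ) * (if oneIrr H = S.twist k (oneIrr H) then 1 else 0)) =
        (if k = 1 then (if i = j then 1 else 0) else 0) + 1 := by
      intro k
      rw [S.twist_oneIrr, if_neg (hΛne i), if_pos rfl,
        if_neg (show oneIrr H ≠ S.twist k (Λ j) from fun h => hΛne j (Subtype.ext (funext fun x => by
          obtain ⟨y, rfl⟩ := (S.act k).surjective x
          exact (congrFun (congrArg Subtype.val h.symm) y))))]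
      by_cases h1 : Λ i = S.twist k (Λ j)
      · obtain ⟨rfl, rfl⟩ := hΛtw i j k h1
        rw [if_pos h1]; simp
      · rw [if_neg h1]
        split_ifs with hk1 hij
        · subst hij; subst hk1
          exact absurd (S.twist_one _).symm h1
        · simp
        · simp
    rw [Finset.sum_congr rfl fun k _ => hterm k, Finset.sum_add_distrib, Finset.sum_ite_eq',
      if_pos (Finset.mem_univ _), Finset.sum_const, Finset.card_univ, nsmul_one, ← Nat.card_eq_fintype_card,
      ← he] at h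
    have h' : ((∑ χ, A i χ * A j χ : ℤ) : ℂ) = (((e : ℤ) + if i = j then 1 else 0 : ℤ) : ℂ) := by
      rw [← h]; push_cast; ring
    exact Int.cast_injective h'
  have hPinner : ∀ χ ∈ P, ∀ f : H → ℂ, f 1 = 0 →
      Cfsg.classInner (Cfsg.indFun H f) (χ : G → ℂ) = Cfsg.classInner f (oneIrr H : H → ℂ) := by
    intro χ hχ f hf
    rw [classInner_indFun_left _ _ (IsCharacter.isClassFunction (IsIrrCharacter.isCharacter χ.2))]
    simp only [Cfsg.classInner]
    congr 1
    refine Finset.sum_congr rfl fun x _ => ?_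
    rcases eq_or_ne x 1 with rfl | hx
    · simp [hf]
    · rw [hPu χ hχ x hx]; rfl
  have hPA : ∀ i, ∀ χ ∈ P, A i χ = -1 := by
    intro i χ hχ
    have h := hA i χ
    rw [show F i = Cfsg.indFun H _ from rfl, hPinner χ hχ _ (by simp [hΛone, oneIrr]), classInner_sub_left,
      classInner_smul_left, classInner_irr_of_ne (Λ i).2 (oneIrr H).2 (fun e => hΛne i (Subtype.ext e)),
      classInner_self_irr (oneIrr H).2] at h
    exact Int.cast_injective (α := ℂ) (by rw [← h]; simp)
  set R : Finset (Cfsg.IrrCharacter G) := Finset.univ \ P with hR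
  have hsplit : ∀ f : Cfsg.IrrCharacter G → ℤ, ∑ χ, f χ = ∑ χ ∈ R, f χ + ∑ χ ∈ P, f χ := fun f =>
    (Finset.sum_sdiff (Finset.subset_univ P)).symm
  have hnuR : ∀ i, ∑ χ ∈ R, A i χ * nuZ χ = (P.card : ℤ) := by
    intro i
    have h := inner_sqCount (hFc i) (A i) (hA i)
    have h2 := S.inner_ind_sqCount (f := (Λ i : H → ℂ) - ((1 : ℕ) : ℂ) • (oneIrr H : H → ℂ))
      (by simp [hΛone, oneIrr])
    rw [show Cfsg.indFun H ((Λ i : H → ℂ) - ((1 : ℕ) : ℂ) • (oneIrr H : H → ℂ)) = F i from rfl, h,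
      Finset.sum_eq_zero (s := (Finset.univ : Finset S.V)) (fun v _ => by simp [hΛV i v v.2, oneIrr]), mul_zero] at h2
    have hz : (∑ χ, A i χ * nuZ χ : ℤ) = 0 := by
      rcases mul_eq_zero.mp h2 with h3 | h3
      · rcases mul_eq_zero.mp h3 with h4 | h4
        · exact_mod_cast h4
        · exact absurd (Nat.cast_eq_zero.mp h4) Nat.card_pos.ne'
      · exact absurd (Nat.cast_eq_zero.mp h3) Nat.card_pos.ne'
    rw [hsplit, Finset.sum_congr rfl (fun χ hχ => by rw [hPA i χ hχ, hPnu χ hχ, mul_one] : ∀ χ ∈ P,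
      A i χ * nuZ χ = -1), Finset.sum_const, nsmul_eq_mul] at hz
    linarith
  have hgramR : ∀ i j, ∑ χ ∈ R, A i χ * A j χ = (e : ℤ) - P.card + if i = j then 1 else 0 := by
    intro i j
    have h := hgram i j
    rw [hsplit, Finset.sum_congr rfl (fun χ hχ => by rw [hPA i χ hχ, hPA j χ hχ]; rfl : ∀ χ ∈ P,
      A i χ * A j χ = 1), Finset.sum_const, nsmul_eq_mul, mul_one] at h
    linarith
  have hsupp : ∀ i, ∀ χ ∈ R, A i χ = 0 ∨ A i χ = nuZ χ := by
    intro i
    have hnn : ∀ χ ∈ R, 0 ≤ A i χ * A i χ - A i χ * nuZ χ := fun χ _ =>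
      sub_nonneg.mpr (sq_ge (nuZ_abs χ)).1
    have h0 : ∑ χ ∈ R, (A i χ * A i χ - A i χ * nuZ χ) = 0 := by
      rw [Finset.sum_sub_distrib, hgramR, hnuR, if_pos rfl]
      omega
    intro χ hχ
    exact eq_zero_or (nuZ_abs χ) (by linarith [(Finset.sum_eq_zero_iff_of_nonneg hnn).mp h0 χ hχ])
  let T : ι → Finset (Cfsg.IrrCharacter G) := fun i => R.filter fun χ => A i χ ≠ 0
  have hTval : ∀ i, ∀ χ ∈ T i, A i χ = nuZ χ ∧ nuZ χ * nuZ χ = 1 := by
    intro i χ hχ
    obtain ⟨h1, h2⟩ := Finset.mem_filter.mp hχ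
    have h3 := (hsupp i χ h1).resolve_left h2
    refine ⟨h3, ?_⟩
    rcases nuZ_abs χ with h | h | h <;> rw [h] at h3 ⊢
    · exact absurd h3 h2
    all_goals norm_num
  have hTinter : ∀ i j, ((T i ∩ T j).card : ℤ) = ∑ χ ∈ R, A i χ * A j χ := by
    intro i j
    have e1 : T i ∩ T j = R.filter fun χ => A i χ ≠ 0 ∧ A j χ ≠ 0 := by
      simp only [T, ← Finset.filter_and]
    rw [e1, Finset.card_filter, Nat.cast_sum]
    refine Finset.sum_congr rfl fun χ hχ => ?_
    split_ifs with h
    · obtain ⟨h1, h2⟩ := hTval i χ (Finset.mem_filter.mpr ⟨hχ, h.1⟩)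
      rw [h1, (hTval j χ (Finset.mem_filter.mpr ⟨hχ, h.2⟩)).1, h2]
      rfl
    · rcases not_and_or.mp h with h' | h' <;> simp [not_not.mp h']
  obtain ⟨C, X, hXinj, hX⟩ := sunflower T P.card (by omega)
    (fun i => by
      have := hTinter i i
      rw [Finset.inter_self, hgramR, if_pos rfl] at this
      omega)
    (fun i j hij => by
      have := hTinter i j
      rw [hgramR, if_neg hij] at this
      omega) (by omega)
  have hXT : ∀ i, X i ∈ T i := fun i => by rw [(hX i).2]; exact Finset.mem_insert_self _ _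
  have hXR : ∀ i, X i ∈ R := fun i => (Finset.mem_filter.mp (hXT i)).1
  have hAX : ∀ i j, A i (X j) = if i = j then nuZ (X j) else 0 := by
    intro i j
    split_ifs with hij
    · subst hij; exact (hTval i _ (hXT i)).1
    · by_contra h
      have hm : X j ∈ T i := Finset.mem_filter.mpr ⟨hXR j, h⟩
      rw [(hX i).2, Finset.mem_insert] at hm
      rcases hm with hm | hm
      · exact hij (hXinj hm).symm
      · exact (hX j).1 hm
  have hdiff : ∀ i j χ, A j χ - A i χ =
      (if χ = X j then nuZ χ else 0) - if χ = X i then nuZ χ else 0 := by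
    intro i j χ
    by_cases hχP : χ ∈ P
    · rw [hPA i χ hχP, hPA j χ hχP, if_neg, if_neg]
      · simp
      · intro h; subst h
        exact (Finset.mem_sdiff.mp (hXR i)).2 hχP
      · intro h; subst h
        exact (Finset.mem_sdiff.mp (hXR j)).2 hχP
    · have hχR : χ ∈ R := Finset.mem_sdiff.mpr ⟨Finset.mem_univ _, hχP⟩
      have hval : ∀ l, A l χ = (if χ ∈ C then nuZ χ else 0) + if χ = X l then nuZ χ else 0 := by
        intro l
        by_cases h : χ ∈ T l
        · rw [(hTval l χ h).1]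
          rw [(hX l).2, Finset.mem_insert] at h
          rcases h with h | h
          · subst h; simp [(hX l).1]
          · rw [if_pos h, if_neg fun h' : χ = X l => (hX l).1 (by rwa [← h']), add_zero]
        · have h0 : A l χ = 0 := by_contra fun h' => h (Finset.mem_filter.mpr ⟨hχR, h'⟩)
          rw [(hX l).2, Finset.mem_insert] at h
          push Not at h
          simp [h0, h.1, h.2]
      rw [hval, hval]
      ring
  obtain ⟨i, l, hil, hl⟩ : ∃ i l, i ≠ l ∧ mult (X l) (oneIrr H) = 0 := by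
    obtain ⟨i, j, hij⟩ := Fintype.exists_pair_of_one_lt_card (α := ι) (by omega)
    by_cases hi : mult (X i) (oneIrr H) = 0
    · exact ⟨j, i, hij.symm, hi⟩
    refine ⟨i, j, hij, ?_⟩
    by_contra hj
    let B : Cfsg.IrrCharacter G → ℤ := fun χ => mult χ (oneIrr H)
    have hB : ∀ χ : Cfsg.IrrCharacter G, Cfsg.classInner (Cfsg.indFun H fun _ => (1 : ℂ)) (χ : G → ℂ) = B χ :=
      fun χ => by
        rw [classInner_indFun_left _ _ (IsCharacter.isClassFunction (IsIrrCharacter.isCharacter χ.2))]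
        exact (mult_spec' χ (oneIrr H)).trans (Int.cast_natCast _).symm
    have htot := inner_eq_sum (isClassFunction_indFun _ _) (isClassFunction_indFun _ _) B B hB hB
    rw [S.norm_R, hsplit] at htot
    have htot' : ∑ χ ∈ R, B χ * B χ + ∑ χ ∈ P, B χ * B χ = 2 * (e : ℤ) := by
      exact_mod_cast htot.symm
    have hone1 : mult (oneIrr G) (oneIrr H) = 1 := by
      have h := mult_spec' (oneIrr G) (oneIrr H)
      rw [show (fun x : H => (oneIrr G : G → ℂ) x) = (oneIrr H : H → ℂ) from rfl,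
        classInner_self_irr (oneIrr H).2] at h
      exact_mod_cast h.symm
    have htwo : ∀ χ ∈ P, χ ≠ oneIrr G → mult χ (oneIrr H) = 2 := by
      intro χ hχ hne
      have h := mult_spec' χ (oneIrr H)
      have hv : ∀ x : H, (oneIrr H : H → ℂ) x * conj ((χ : G → ℂ) x) =
          1 + if x = 1 then (Nat.card H : ℂ) else 0 := by
        intro x
        split_ifs with hx
        · subst hx
          rw [OneMemClass.coe_one, hPdeg χ hχ hne, map_add, map_natCast, map_one]
          show (1 : ℂ) * _ = _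
          ring
        · rw [hPu χ hχ x hx, map_one, mul_one, add_zero]; rfl
      have hh : (Nat.card H : ℂ) ≠ 0 := Nat.cast_ne_zero.mpr Nat.card_pos.ne'
      rw [Cfsg.classInner, Finset.sum_congr rfl fun x _ => hv x, Finset.sum_add_distrib, Finset.sum_const,
        Finset.sum_ite_eq', if_pos (Finset.mem_univ _), Finset.card_univ, nsmul_one, ← Nat.card_eq_fintype_card,
        ← two_mul, mul_left_comm, inv_mul_cancel₀ hh, mul_one] at h
      exact_mod_cast h.symm
    have hPsum : ∑ χ ∈ P, B χ * B χ = 2 * (e : ℤ) - 1 := by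
      rw [← Finset.add_sum_erase P _ hPone, Finset.sum_congr rfl (fun χ hχ => by
        simp only [B, htwo χ (Finset.mem_of_mem_erase hχ) (Finset.ne_of_mem_erase hχ)]; rfl :
        ∀ χ ∈ P.erase (oneIrr G), B χ * B χ = 4), Finset.sum_const, nsmul_eq_mul,
        Finset.card_erase_of_mem hPone, Nat.cast_sub (by omega)]
      simp only [B, hone1]
      omega
    have hle : B (X i) * B (X i) + B (X j) * B (X j) ≤ ∑ χ ∈ R, B χ * B χ := by
      rw [← Finset.sum_pair (f := fun χ => B χ * B χ) (fun h => hij (hXinj h))]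
      exact Finset.sum_le_sum_of_subset_of_nonneg
        (Finset.insert_subset (hXR i) (Finset.singleton_subset_iff.mpr (hXR j)))
        fun χ _ _ => mul_self_nonneg _
    have h1 : 1 ≤ B (X i) * B (X i) := by
      have : (1 : ℤ) ≤ B (X i) := by simp only [B]; omega
      nlinarith
    have h2 : 1 ≤ B (X j) * B (X j) := by
      have : (1 : ℤ) ≤ B (X j) := by simp only [B]; omega
      nlinarith
    linarith
  have hli : mult (X l) (Λ i) = 0 := by
    have h := hAX i l
    rw [if_neg hil] at h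
    simp only [A, hl] at h
    omega
  have hnul : nuZ (X l) = 1 := by
    have h := hAX l l
    rw [if_pos rfl] at h
    simp only [A, hl] at h
    have h2 := (hTval l _ (hXT l)).2
    rcases nuZ_abs (X l) with h' | h' | h'
    · rw [h'] at h2; norm_num at h2
    · exact h'
    · rw [h'] at h; omega
  have hzero : ∀ ψ : Cfsg.IrrCharacter H, ∀ v₀ ∈ S.V, (ψ : H → ℂ) v₀ ≠ (ψ : H → ℂ) 1 →
      mult (X l) ψ = 0 := by
    intro ψ v₀ hv₀ hne
    obtain ⟨m, hm0, hm⟩ := IsIrrCharacter.exists_degree ψ.2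
    have hmle : m ≤ e + 1 := by
      have h := S.degree_sq_le ψ hm
      rw [S.card_V, ← he, hk, show (e + 1) ^ 3 = (e + 1) ^ 2 * (e + 1) by ring] at h
      exact (Nat.pow_le_pow_iff_left two_ne_zero).mp (Nat.le_of_mul_le_mul_right h (by omega))
    have hψtriv : ∀ φ : Cfsg.IrrCharacter H, (∀ v ∈ S.V, (φ : H → ℂ) v = 1) → ψ ≠ φ := by
      rintro φ hφ rfl
      exact hne (by rw [hφ v₀ hv₀, hφ 1 (one_mem _)])
    let B : Cfsg.IrrCharacter G → ℤ := fun χ => (mult χ ψ : ℤ) - (m : ℤ) * mult χ (Λ i)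
    let E : G → ℂ := Cfsg.indFun H ((ψ : H → ℂ) - (m : ℂ) • (Λ i : H → ℂ))
    have hB : ∀ χ : Cfsg.IrrCharacter G, Cfsg.classInner E (χ : G → ℂ) = B χ :=
      fun χ => inner_ind_irr _ _ _ χ
    have hEc : Cfsg.IsClassFunction G E := isClassFunction_indFun _ _
    have h0 : ((ψ : H → ℂ) - (m : ℂ) • (Λ i : H → ℂ)) 1 = 0 := by simp [hm, hΛone]
    have hnorm : (∑ χ, B χ * B χ : ℤ) = 1 + (m : ℤ) ^ 2 := by
      have h : Cfsg.classInner E E = _ := inner_eq_sum hEc hEc B B hB hB
      rw [S.inner_pair (by rw [hm, hΛone, mul_one])] at h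
      have hterm : ∀ k : two (G := G) a b,
          ((if ψ = S.twist k ψ then (1 : ℂ) else 0) - (m : ℂ) * (if ψ = S.twist k (Λ i) then 1 else 0)) -
            (m : ℂ) * ((if Λ i = S.twist k ψ then 1 else 0) - (m : ℂ) * (if Λ i = S.twist k (Λ i) then 1 else 0)) =
          if k = 1 then 1 + (m : ℂ) ^ 2 else 0 := by
        intro k
        rw [if_neg (hψtriv (S.twist k (Λ i)) fun v hv => hΛV i _ (S.act_mem k hv)),
          if_neg (show Λ i ≠ S.twist k ψ from fun h => hψtriv (S.twist k⁻¹ (Λ i))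
            (fun v hv => hΛV i _ (S.act_mem _ hv)) (Subtype.ext (funext fun x => by
              show (ψ : H → ℂ) x = (Λ i : H → ℂ) (S.act k⁻¹ x)
              rw [congrFun (congrArg Subtype.val h) (S.act k⁻¹ x)]
              show _ = (ψ : H → ℂ) (S.act k (S.act k⁻¹ x))
              rw [← MulAut.mul_apply, ← map_mul, mul_inv_cancel, map_one]; rfl)))]
        by_cases hk1 : k = 1
        · subst hk1
          rw [S.twist_one, S.twist_one]
          simp only [if_true]
          ring
        · rw [if_neg hk1, if_neg fun h => S.central_not_fixed ψ hv₀ hne hk1 (congrArg Subtype.val h.symm),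
            if_neg fun h => hk1 (hΛtw i i k h).2]
          ring
      rw [Finset.sum_congr rfl fun k _ => hterm k, Finset.sum_ite_eq', if_pos (Finset.mem_univ _)] at h
      have h' : ((∑ χ, B χ * B χ : ℤ) : ℂ) = ((1 + (m : ℤ) ^ 2 : ℤ) : ℂ) := by
        rw [← h]; push_cast; ring
      exact Int.cast_injective h'
    have hPB : ∀ χ ∈ P, B χ = 0 := by
      intro χ hχ
      have h := hB χ
      rw [show E = Cfsg.indFun H _ from rfl, hPinner χ hχ _ h0, classInner_sub_left, classInner_smul_left,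
        classInner_irr_of_ne ψ.2 (oneIrr H).2 (fun e => hψtriv (oneIrr H) (fun _ _ => rfl) (Subtype.ext e)),
        classInner_irr_of_ne (Λ i).2 (oneIrr H).2 (fun e => hΛne i (Subtype.ext e))] at h
      exact Int.cast_injective (α := ℂ) (by rw [← h]; simp)
    have hnu : (∑ χ, B χ * nuZ χ : ℤ) * (e + 1 : ℤ) = -((m : ℤ) * (e + 2)) := by
      have h := inner_sqCount hEc B hB
      have h2 := S.inner_ind_sqCount h0
      rw [show Cfsg.indFun H ((ψ : H → ℂ) - (m : ℂ) • (Λ i : H → ℂ)) = E from rfl, h] at h2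
      have hsum : ∑ v : S.V, ((ψ : H → ℂ) - (m : ℂ) • (Λ i : H → ℂ)) v = -((m : ℂ) * ((e : ℂ) + 1)) := by
        simp only [Pi.sub_apply, Pi.smul_apply, smul_eq_mul]
        rw [Finset.sum_sub_distrib, S.sum_V ψ hv₀ hne,
          Finset.sum_congr rfl (fun v _ => by rw [hΛV i v v.2, mul_one] : ∀ v ∈ (Finset.univ : Finset S.V),
            (m : ℂ) * (Λ i : H → ℂ) v = m), Finset.sum_const, Finset.card_univ, nsmul_eq_mul,
          ← Nat.card_eq_fintype_card, S.card_V, ← he]
        push_cast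
        ring
      rw [hsum, hk, ← he] at h2
      have hne0 : ((e : ℂ) + 1) ^ 2 * (e : ℂ) ≠ 0 := mul_ne_zero
        (pow_ne_zero 2 (by exact_mod_cast (show e + 1 ≠ 0 by omega)))
        (Nat.cast_ne_zero.mpr (by omega))
      have h' : (((∑ χ, B χ * nuZ χ) * (e + 1 : ℤ) : ℤ) : ℂ) = ((-((m : ℤ) * (e + 2)) : ℤ) : ℂ) := by
        refine mul_right_cancel₀ hne0 ?_
        push_cast at h2 ⊢
        linear_combination h2
      exact Int.cast_injective h'
    have hmq : m = e + 1 := by
      have h1 : ((e + 1 : ℕ) : ℤ) ∣ ((m * (e + 2) : ℕ) : ℤ) := ⟨-(∑ χ, B χ * nuZ χ), by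
        push_cast; linarith [hnu]⟩
      have h2 : e + 1 ∣ m := (show Nat.Coprime (e + 1) (e + 2) from
        Nat.coprime_self_add_right.mpr (Nat.coprime_one_right _)).dvd_of_dvd_mul_right
        (Int.natCast_dvd_natCast.mp h1)
      exact le_antisymm hmle (Nat.le_of_dvd hm0 h2)
    have hnu' : (∑ χ, B χ * nuZ χ : ℤ) = -((e : ℤ) + 2) := by
      rw [hmq] at hnu
      refine mul_right_cancel₀ (show ((e : ℤ) + 1) ≠ 0 by omega) (hnu.trans ?_)
      push_cast
      ring
    have hBA : ∀ j, ∑ χ, B χ * A j χ = -((m : ℤ) * if i = j then 1 else 0) := by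
      intro j
      have h : Cfsg.classInner E (F j) = _ := inner_eq_sum hEc (hFc j) B (A j) hB (hA j)
      rw [S.inner_pair (by rw [hm, hΛone, mul_one])] at h
      have hterm : ∀ k : two (G := G) a b,
          ((if ψ = S.twist k (Λ j) then (1 : ℂ) else 0) -
              ((1 : ℕ) : ℂ) * (if ψ = S.twist k (oneIrr H) then 1 else 0)) -
            (m : ℂ) * ((if Λ i = S.twist k (Λ j) then 1 else 0) -
              ((1 : ℕ) : ℂ) * (if Λ i = S.twist k (oneIrr H) then 1 else 0)) =
          if k = 1 then -((m : ℂ) * if i = j then 1 else 0) else 0 := by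
        intro k
        rw [S.twist_oneIrr, if_neg (hΛne i), if_neg (hψtriv (S.twist k (Λ j)) fun v hv => hΛV j _ (S.act_mem k hv)),
          if_neg (hψtriv (oneIrr H) fun _ _ => rfl)]
        by_cases h1 : Λ i = S.twist k (Λ j)
        · obtain ⟨rfl, rfl⟩ := hΛtw i j k h1
          rw [if_pos h1]; simp
        · rw [if_neg h1]
          split_ifs with hk1 hij
          · subst hij; subst hk1
            exact absurd (S.twist_one _).symm h1
          · simp
          · simp
      rw [Finset.sum_congr rfl fun k _ => hterm k, Finset.sum_ite_eq', if_pos (Finset.mem_univ _)] at h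
      have h' : ((∑ χ, B χ * A j χ : ℤ) : ℂ) = ((-((m : ℤ) * if i = j then 1 else 0) : ℤ) : ℂ) := by
        rw [← h]; push_cast; rfl
      exact Int.cast_injective h'
    let y : ι → ℤ := fun j => B (X j) * nuZ (X j)
    have hy : ∀ j, y j = y i + if i = j then 0 else (m : ℤ) := by
      intro j
      split_ifs with hij
      · subst hij; rw [add_zero]
      have h : ∑ χ, B χ * (A j χ - A i χ) = (m : ℤ) := by
        simp only [mul_sub]
        rw [Finset.sum_sub_distrib, hBA, hBA, if_pos rfl, if_neg hij]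
        ring
      simp only [hdiff, mul_sub, mul_ite, mul_zero, Finset.sum_sub_distrib, Finset.sum_ite_eq',
        Finset.mem_univ, if_true] at h
      simp only [y]
      linarith
    set x : ℤ := (mult (X l) ψ : ℤ) with hx
    have hyl : y l = x := by simp [y, B, hli, hnul, hx]
    have hyi : y i = x - m := by
      have := hy l
      rw [if_neg hil, hyl] at this
      linarith
    have hyj : ∀ j, y j = x - if i = j then (m : ℤ) else 0 := fun j => by
      rw [hy j, hyi]; split_ifs <;> ring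
    have hB2 : ∀ j, B (X j) * B (X j) = y j * y j := fun j => by
      simp only [y]
      linear_combination (-(B (X j) * B (X j))) * (hTval j _ (hXT j)).2
    have hs1 : ∑ j, y j = (e + 2 : ℤ) * x - m := by
      simp only [hyj, Finset.sum_sub_distrib, Finset.sum_ite_eq, Finset.mem_univ, if_true, Finset.sum_const,
        Finset.card_univ, hι', nsmul_eq_mul]
      push_cast
      ring
    have hs2 : ∑ j, B (X j) * B (X j) = (e + 2 : ℤ) * x ^ 2 - 2 * m * x + (m : ℤ) ^ 2 := by
      rw [Finset.sum_congr rfl (fun j _ => show B (X j) * B (X j) = x ^ 2 +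
        if i = j then -(2 * m * x) + (m : ℤ) ^ 2 else 0 by rw [hB2, hyj]; split_ifs <;> ring),
        Finset.sum_add_distrib, Finset.sum_ite_eq, if_pos (Finset.mem_univ _), Finset.sum_const,
        Finset.card_univ, hι', nsmul_eq_mul]
      push_cast
      ring
    have hsub : Finset.univ.image X ⊆ R := fun χ hχ => by
      obtain ⟨j, -, rfl⟩ := Finset.mem_image.mp hχ
      exact hXR j
    have himg : ∀ f : Cfsg.IrrCharacter G → ℤ, ∑ χ, f χ =
        ∑ χ ∈ R \ Finset.univ.image X, f χ + ∑ j, f (X j) + ∑ χ ∈ P, f χ := fun f => by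
      rw [hsplit f, ← Finset.sum_sdiff hsub, Finset.sum_image fun p _ q _ h => hXinj h]
    have hN := himg fun χ => B χ * B χ
    have hV := himg fun χ => B χ * nuZ χ
    rw [hnorm, hs2, Finset.sum_eq_zero (s := P) fun χ hχ => by simp [hPB χ hχ]] at hN
    rw [hnu', show ∑ j, B (X j) * nuZ (X j) = _ from hs1,
      Finset.sum_eq_zero (s := P) fun χ hχ => by simp [hPB χ hχ]] at hV
    have hle : -(∑ χ ∈ R \ Finset.univ.image X, B χ * B χ) ≤
        ∑ χ ∈ R \ Finset.univ.image X, B χ * nuZ χ := by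
      rw [← Finset.sum_neg_distrib]
      exact Finset.sum_le_sum fun χ _ => (sq_ge (nuZ_abs χ)).2
    have hx0 : 0 ≤ x := Int.natCast_nonneg _
    have hm' : (m : ℤ) = e + 1 := by exact_mod_cast hmq
    have : x = 0 := by
      by_contra hx1
      have hx2 : 1 ≤ x := by omega
      nlinarith [mul_le_mul_of_nonneg_left hx2 (show (0 : ℤ) ≤ (e + 2) * x by positivity)]
    rw [hx] at this
    exact_mod_cast this
  obtain ⟨v, hv, hv1⟩ := S.exists_V_ne_one
  have hker : (X l : G → ℂ) (v : G) = (X l : G → ℂ) 1 := by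
    rw [← OneMemClass.coe_one H, restrict_eq_sum, restrict_eq_sum]
    refine Finset.sum_congr rfl fun ψ _ => ?_
    by_cases hψ : (ψ : H → ℂ) v = (ψ : H → ℂ) 1
    · rw [hψ]
    · simp [hzero ψ v hv hψ]
  obtain ⟨N, hN, hmem, -⟩ := IsCharacter.exists_kernel (IsIrrCharacter.isCharacter (X l).2)
  rcases hN.eq_bot_or_eq_top with h | h
  · have hvN : (v : G) ∈ N := (hmem _).mpr hker
    rw [h, Subgroup.mem_bot] at hvN
    exact absurd (Subtype.ext hvN) hv1
  have hconst : ∀ g, (X l : G → ℂ) g = (X l : G → ℂ) 1 := fun g => (hmem g).mp (h ▸ Subgroup.mem_top g)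
  have hXone : X l = oneIrr G := by
    by_contra hne
    have h0 := classInner_irr_of_ne (X l).2 (oneIrr G).2 fun e => hne (Subtype.ext e)
    rw [Cfsg.classInner, Finset.sum_congr rfl (fun g _ => by
      rw [hconst g, show (oneIrr G : G → ℂ) g = 1 from rfl, map_one, mul_one] : ∀ g ∈ (Finset.univ : Finset G),
      (X l : G → ℂ) g * conj ((oneIrr G : G → ℂ) g) = (X l : G → ℂ) 1), Finset.sum_const, Finset.card_univ,
      nsmul_eq_mul, ← Nat.card_eq_fintype_card, ← mul_assoc,
      inv_mul_cancel₀ (Nat.cast_ne_zero.mpr Nat.card_pos.ne'), one_mul] at h0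
    exact IsIrrCharacter.one_ne_zero (X l).2 h0
  exact (Finset.mem_sdiff.mp (hXR l)).2 (hXone ▸ hPone)

theorem card_sq : Nat.card H = (Nat.card (two (G := G) a b) + 1) ^ 2 :=
  S.card_H.resolve_right S.not_cube

end Suz

end Cfsg.Agent.ZassSuz
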