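import Mathlib

/-!
# The arithmetic of the tori
-/

set_option autoImplicit false

namespace Cfsg.Agent.ZassSuz

theorem torus_arith {ι : Type*} [Fintype ι] (n q : ℕ) (hn : 2 ≤ n) (hq : q = 2 ^ n) (t w M : ι → ℕ)
    (h3 : ∀ i, 3 ≤ t i) (hodd : ∀ i, Odd (t i)) (hw : ∀ i, w i = 2 ∨ w i = 4) (hwt : ∀ i, w i ∣ t i - 1)
    (hdvd : ∀ i, t i ∣ q ^ 2 + 1) (hcop : ∀ i j, i ≠ j → Nat.Coprime (t i) (t j))
    (hM : ∀ i, M i * (t i * w i) = (q ^ 2 + 1) * q ^ 2 * (q - 1)) (hcong : ∀ i, (t i : ℤ) ∣ (M i : ℤ) - 1)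
    (hsum : ∑ i, ((t i : ℚ) - 1) / w i = (q : ℚ) / 2)
    (hbound : ∑ i, ((t i : ℚ) - 1) / (t i * w i) < 1 / 2) : Odd n := by
  classical
  have hq4 : 4 ≤ q := hq ▸ le_trans (by norm_num) (Nat.pow_le_pow_right (by norm_num : 0 < 2) hn)
  have h5 : ∀ i, w i = 4 → 5 ≤ t i := fun i h => by
    have := h3 i
    have := hwt i
    rw [h] at this
    obtain ⟨k, hk⟩ := this
    omega
  have hterm : ∀ i, (1 : ℚ) / 5 ≤ ((t i : ℚ) - 1) / (t i * w i) ∧
      (w i = 2 → (1 : ℚ) / 3 ≤ ((t i : ℚ) - 1) / (t i * w i)) := by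
    intro i
    have ht : (3 : ℚ) ≤ t i := by exact_mod_cast h3 i
    refine ⟨?_, fun h => ?_⟩
    · rcases hw i with h | h <;> rw [h] <;> push_cast <;> rw [le_div_iff₀ (by positivity)]
      · linarith
      · have : (5 : ℚ) ≤ t i := by exact_mod_cast h5 i h
        linarith
    · rw [h]; push_cast; rw [le_div_iff₀ (by positivity)]; linarith
  have hnn : ∀ i, (0 : ℚ) ≤ ((t i : ℚ) - 1) / (t i * w i) := fun i => le_trans (by norm_num) (hterm i).1
  have hc2 : Fintype.card ι ≤ 2 := by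
    by_contra h
    have h' : ∑ _i : ι, (1 : ℚ) / 5 ≤ ∑ i, ((t i : ℚ) - 1) / (t i * w i) :=
      Finset.sum_le_sum fun i _ => (hterm i).1
    rw [Finset.sum_const, Finset.card_univ, nsmul_eq_mul] at h'
    have : (3 : ℚ) ≤ Fintype.card ι := by exact_mod_cast (by omega : 3 ≤ Fintype.card ι)
    linarith
  have hqQ : (4 : ℚ) ≤ q := by exact_mod_cast hq4
  rcases (by omega : Fintype.card ι = 0 ∨ Fintype.card ι = 1 ∨ Fintype.card ι = 2) with h | h | h
  · haveI := Fintype.card_eq_zero_iff.mp h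
    rw [Finset.univ_eq_empty, Finset.sum_empty] at hsum
    linarith
  · obtain ⟨i, hi⟩ := Fintype.card_eq_one_iff.mp h
    rw [Finset.sum_eq_single i (fun j _ hj => absurd (hi j) hj) (by simp)] at hsum
    exfalso
    have hd := hdvd i
    rcases hw i with h | h <;> rw [h] at hsum <;> push_cast at hsum
    · have ht : t i = q + 1 := by exact_mod_cast (show (t i : ℚ) = q + 1 by linarith)
      rw [ht] at hd
      have h2 : q + 1 ∣ 2 := by
        have e : (q + 1) * (q + 1) = q ^ 2 + 1 + 2 * q := by ring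
        have h4 : q + 1 ∣ 2 * q := (Nat.dvd_add_right hd).mp (e ▸ dvd_mul_right _ _)
        exact (Nat.dvd_add_right h4).mp (by rw [show 2 * q + 2 = (q + 1) * 2 by ring]; exact dvd_mul_right _ _)
      have := Nat.le_of_dvd two_pos h2
      omega
    · have ht : t i = 2 * q + 1 := by exact_mod_cast (show (t i : ℚ) = 2 * q + 1 by linarith)
      rw [ht] at hd
      have h5' : 2 * q + 1 ∣ 5 := by
        have e : (2 * q + 1) * (2 * q + 1) + 4 = 4 * (q ^ 2 + 1) + (4 * q + 1) := by ring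
        have h6 : ((2 * q + 1 : ℕ) : ℤ) ∣ ((4 * (q ^ 2 + 1) : ℕ) : ℤ) :=
          Int.natCast_dvd_natCast.mpr (hd.mul_left 4)
        refine Int.natCast_dvd_natCast.mp ?_
        push_cast at h6 ⊢
        have e2 : (5 : ℤ) = 4 * ((q : ℤ) ^ 2 + 1) - (2 * q + 1) * (2 * q - 1) := by ring
        rw [e2]
        exact dvd_sub h6 (dvd_mul_right _ _)
      have := Nat.le_of_dvd (by norm_num) h5'
      omega
  obtain ⟨i, j, hij, huniv⟩ : ∃ i j, i ≠ j ∧ (Finset.univ : Finset ι) = {i, j} :=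
    Finset.card_eq_two.mp (by rw [Finset.card_univ, h])
  rw [huniv, Finset.sum_pair hij] at hsum hbound
  have hwi : w i = 4 ∧ w j = 4 := by
    have a := hterm i
    have b := hterm j
    constructor
    · refine (hw i).resolve_left fun h => ?_
      have := a.2 h; linarith [b.1]
    · refine (hw j).resolve_left fun h => ?_
      have := b.2 h; linarith [a.1]
  rw [hwi.1, hwi.2] at hsum
  push_cast at hsum
  have hs : t i + t j = 2 * q + 2 := by exact_mod_cast (show (t i : ℚ) + t j = 2 * q + 2 by linarith)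
  obtain ⟨L, hL⟩ := (hcop i j hij).mul_dvd_of_dvd_of_dvd (hdvd i) (hdvd j)
  have key : ∀ a b : ι, w a = 4 → t a + t b = 2 * q + 2 → q ^ 2 + 1 = t a * t b * L → (t a : ℤ) ∣ (L : ℤ) - 1 := by
    intro a b ha hab hLab
    have hm := hM a
    rw [ha, hLab] at hm
    have hm' : M a * 4 = t b * L * q ^ 2 * (q - 1) := by
      refine Nat.eq_of_mul_eq_mul_left (by have := h3 a; omega : 0 < t a) ?_
      linarith [hm]
    have hmz : (M a : ℤ) * 4 = (t b : ℤ) * L * (q : ℤ) ^ 2 * ((q : ℤ) - 1) := by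
      have h' : ((M a * 4 : ℕ) : ℤ) = ((t b * L * q ^ 2 * (q - 1) : ℕ) : ℤ) := by rw [hm']
      push_cast [Nat.cast_sub (by omega : 1 ≤ q)] at h'
      exact h'
    have hb : (t b : ℤ) = 2 * q + 2 - t a := by
      have : ((t a + t b : ℕ) : ℤ) = ((2 * q + 2 : ℕ) : ℤ) := by rw [hab]
      push_cast at this
      linarith
    obtain ⟨c, hc⟩ := hcong a
    have hp : (q : ℤ) ^ 2 + 1 = t a * t b * L := by
      have : ((q ^ 2 + 1 : ℕ) : ℤ) = ((t a * t b * L : ℕ) : ℤ) := by rw [hLab]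
      push_cast at this
      exact this
    have h4 : (t a : ℤ) ∣ 4 * ((L : ℤ) - 1) := ⟨4 * c - (t b : ℤ) ^ 2 * (L : ℤ) ^ 2 * ((q : ℤ) - 1) +
        2 * (t b : ℤ) * L ^ 2 - (L : ℤ) * ((q : ℤ) - 1), by
      linear_combination 4 * hc - hmz + (2 * (L : ℤ) - (L : ℤ) * ((q : ℤ) - 1) * (t b : ℤ)) * hp +
        ((L : ℤ) * ((q : ℤ) - 1)) * hb⟩
    have hcp : IsCoprime (t a : ℤ) (4 : ℤ) := by
      refine Int.isCoprime_iff_nat_coprime.mpr ?_
      simp only [Int.natAbs_natCast]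
      rw [show (4 : ℤ).natAbs = 2 ^ 2 by rfl]
      exact Nat.Coprime.pow_right _ (Nat.coprime_two_right.mpr (hodd a))
    exact hcp.dvd_of_dvd_mul_left h4
  have hd1 := key i j hwi.1 hs hL
  have hd2 := key j i hwi.2 (by omega) (by rw [hL]; ring)
  have hdP : ((t i * t j : ℕ) : ℤ) ∣ (L : ℤ) - 1 := by
    push_cast
    exact (Int.isCoprime_iff_nat_coprime.mpr (by simpa using hcop i j hij)).mul_dvd hd1 hd2
  have hL0 : L ≠ 0 := fun e => by rw [e, mul_zero] at hL; omega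
  have hL1 : L = 1 := by
    by_contra hne
    have hle : ((t i * t j : ℕ) : ℤ) ≤ (L : ℤ) - 1 := Int.le_of_dvd (by omega) hdP
    have hlo : 10 * q ≤ t i * t j + 15 := by
      have := h5 i hwi.1
      have := h5 j hwi.2
      nlinarith [Nat.mul_le_mul (h5 i hwi.1) (h5 j hwi.2)]
    have h7 : t i * t j + 1 ≤ L := by omega
    have h8 : t i * t j * (t i * t j + 1) ≤ q ^ 2 + 1 := hL ▸ Nat.mul_le_mul_left _ h7
    nlinarith
  rw [hL1, mul_one] at hL
  have hsq : ((t i : ℤ) - t j) ^ 2 = 2 ^ (n + 3) := by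
    have e1 : ((t i : ℤ) + t j) = 2 * (q : ℤ) + 2 := by exact_mod_cast hs
    have e2 : (q : ℤ) ^ 2 + 1 = t i * t j := by exact_mod_cast hL
    have e3 : (q : ℤ) = 2 ^ n := by exact_mod_cast hq
    rw [pow_add, ← e3]
    linear_combination ((t i : ℤ) + t j + 2 * q + 2) * e1 + 4 * e2
  have hnat : (((t i : ℤ) - t j).natAbs) ^ 2 = 2 ^ (n + 3) := by
    rw [← Int.natAbs_pow, hsq, Int.natAbs_pow]; rfl
  set d := ((t i : ℤ) - t j).natAbs
  obtain ⟨k, -, hk⟩ := (Nat.dvd_prime_pow Nat.prime_two).mp (hnat ▸ dvd_pow_self d two_ne_zero)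
  rw [hk, ← pow_mul] at hnat
  have := Nat.pow_right_injective le_rfl hnat
  exact ⟨k - 2, by omega⟩

end Cfsg.Agent.ZassSuz
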