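import Cfsg.Agent.Lib.ZassSuz.Tori

/-!
# Counting torus elements as products of two involutions
-/

set_option autoImplicit false
set_option linter.style.haveILetI false
set_option linter.unusedSectionVars false

namespace Cfsg.Agent.ZassSuz

open Cfsg.Agent.Zass MulAction
open scoped Classical

universe u v

variable {G : Type u} [Group G] [Fintype G] {Ω : Type v} [MulAction G Ω] [Fintype Ω]

namespace Suz

variable {a b : Ω} {H : Subgroup G} (S : Suz a b H)
include S

theorem card_swaps_pt {c d : Ω} (hcd : c ≠ d) :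
    (Finset.univ.filter fun t : G => orderOf t = 2 ∧ t • c = d).card = Nat.card (two (G := G) a b) := by
  rw [← S.toData.card_swaps_even S.even, ← Fintype.card_subtype, ← Nat.card_eq_fintype_card]
  obtain ⟨g, g1, g2⟩ := S.toData.move_to hcd
  refine (Nat.card_congr ((MulAut.conj g).toEquiv.subtypeEquiv fun t => ?_)).symm
  simp only [MulEquiv.toEquiv_eq_coe, EquivLike.coe_coe, MulEquiv.orderOf_eq]
  refine and_congr_right fun _ => ?_
  rw [MulAut.conj_apply, ← g1, ← g2, mul_smul, mul_smul, inv_smul_smul, smul_left_cancel_iff]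

/-- The weighted count of the torus elements. -/
theorem sum_torus_elt :
    2 * ∑ g ∈ Finset.univ.filter (fun g : G => IsTorusElt Ω g),
        Nat.card (Subgroup.centralizer ({g} : Set G)) =
      Nat.card G * (Nat.card (two (G := G) a b) + 1) := by
  set e := Nat.card (two (G := G) a b) with he
  set h := Nat.card H with hh
  set I : Finset G := Finset.univ.filter fun t => orderOf t = 2 with hI
  set P : Finset (G × G) := (I ×ˢ I).filter fun p => ∀ c : Ω, p.1 • c = c → p.2 • c ≠ c with hP
  have hIcard : I.card = (h + 1) * e := by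
    rw [mul_comm, he, hh, ← S.toData.card_inv_even S.even, Nat.card_eq_fintype_card, Fintype.card_subtype]
  -- pairs with different fixed points
  have hPcard : P.card = I.card * (h * e) := by
    rw [Finset.card_eq_sum_card_fiberwise (f := Prod.fst) (t := I)
      (fun p hp => (Finset.mem_product.mp (Finset.mem_filter.mp hp).1).1), Finset.sum_const_nat]
    intro t ht
    obtain ⟨c, hc⟩ := S.exists_fix (Finset.mem_filter.mp ht).2
    have hfib : (P.filter fun p => p.1 = t).card = (I.filter fun t' => ¬ t' • c = c).card := by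
      refine (Finset.card_bij (fun t' _ => (t, t')) (fun t' ht' => ?_) (fun _ _ _ _ h => (Prod.ext_iff.mp h).2)
        fun p hp => ?_).symm
      · simp only [hP, Finset.mem_filter, Finset.mem_product]
        refine ⟨⟨⟨ht, (Finset.mem_filter.mp ht').1⟩, fun z hz => ?_⟩, trivial⟩
        rw [(hc z).mp hz]
        exact (Finset.mem_filter.mp ht').2
      · simp only [hP, Finset.mem_filter, Finset.mem_product] at hp
        obtain ⟨⟨⟨-, h2⟩, h3⟩, h4⟩ := hp
        exact ⟨p.2, Finset.mem_filter.mpr ⟨h2, h3 c (h4 ▸ (hc c).mpr rfl)⟩, Prod.ext h4.symm rfl⟩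
    rw [hfib]
    have h2 := Finset.card_filter_add_card_filter_not (s := I) (fun t' : G => t' • c = c)
    rw [hI, Finset.filter_filter, S.toData.card_inv_fixing S.big c, ← hI, hIcard, ← he] at h2
    have h3 : (h + 1) * e = h * e + e := by ring
    omega
  -- the incidences
  have hfix : ∀ p ∈ P, ∀ c : Ω, (p.1 * p.2) • c = c ↔ p.2 • c = p.1 • c := by
    intro p hp c
    simp only [hP, hI, Finset.mem_filter, Finset.mem_product, Finset.mem_univ, true_and] at hp
    rw [mul_smul, smul_eq_iff_eq_inv_smul, inv_eq_of_mul_eq_one_left (orderOf_two_iff.mp hp.1.1).1]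
  have hinc : ∑ p ∈ P, (Finset.univ.filter fun c : Ω => (p.1 * p.2) • c = c).card =
      (h + 1) * (h * (e * e - e)) := by
    rw [Finset.sum_congr rfl fun p _ => Finset.card_filter _ _, Finset.sum_comm]
    have hcol : ∀ c ∈ (Finset.univ : Finset Ω),
        ∑ p ∈ P, (if (p.1 * p.2) • c = c then 1 else 0) = h * (e * e - e) := by
      intro c _
      rw [← Finset.card_filter]
      have hmaps : ∀ p ∈ P.filter (fun p => (p.1 * p.2) • c = c), p.1 • c ∈ Finset.univ.erase c := by
        intro p hp
        obtain ⟨hpP, hpc⟩ := Finset.mem_filter.mp hp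
        refine Finset.mem_erase.mpr ⟨fun hfc => ?_, Finset.mem_univ _⟩
        exact (Finset.mem_filter.mp hpP).2 c hfc (((hfix p hpP c).mp hpc).trans hfc)
      rw [Finset.card_eq_sum_card_fiberwise hmaps, Finset.sum_const_nat (m := e * e - e)]
      · rw [Finset.card_erase_of_mem (Finset.mem_univ _), Finset.card_univ, ← S.card, Nat.add_sub_cancel, hh]
      intro d hd
      have hdc := (Finset.ne_of_mem_erase hd).symm
      rw [he, ← S.card_swaps_pt hdc, ← Finset.offDiag_card]
      refine congrArg Finset.card (Finset.ext fun p => ?_)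
      simp only [Finset.mem_filter, Finset.mem_offDiag, Finset.mem_univ, true_and]
      constructor
      · rintro ⟨⟨hpP, hpc⟩, hd'⟩
        have h2 := (hfix p hpP c).mp hpc
        simp only [hP, hI, Finset.mem_filter, Finset.mem_product, Finset.mem_univ, true_and] at hpP
        refine ⟨⟨hpP.1.1, hd'⟩, ⟨hpP.1.2, h2.trans hd'⟩, fun e' => ?_⟩
        obtain ⟨z, hz⟩ := S.exists_fix hpP.1.1
        exact hpP.2 z ((hz z).mpr rfl) (e' ▸ (hz z).mpr rfl)
      · rintro ⟨⟨h1, h1d⟩, ⟨h2, h2d⟩, hne⟩
        have hpP : p ∈ P := by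
          simp only [hP, hI, Finset.mem_filter, Finset.mem_product, Finset.mem_univ, true_and]
          refine ⟨⟨h1, h2⟩, fun z hz1 hz2 => hne ?_⟩
          have hswap : ∀ t : G, orderOf t = 2 → t • c = d → t • d = c := fun t ht htc => by
            rw [← htc, ← mul_smul, (orderOf_two_iff.mp ht).1, one_smul]
          have hzc : c ≠ z := fun e' => hdc (by rw [← h1d, e', hz1])
          have hzd : d ≠ z := fun e' => hdc (by rw [← hswap _ h1 h1d, e', hz1])
          have hone : p.1 * p.2 = 1 := three S.zg hdc hzd hzc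
            (by rw [mul_smul, h2d, hswap _ h1 h1d]) (by rw [mul_smul, hswap _ h2 h2d, h1d])
            (by rw [mul_smul, hz2, hz1])
          rw [eq_inv_of_mul_eq_one_left hone, inv_eq_of_mul_eq_one_left (orderOf_two_iff.mp h2).1]
        exact ⟨⟨hpP, (hfix p hpP c).mpr (h2d.trans h1d.symm)⟩, h1d⟩
    rw [Finset.sum_congr rfl hcol, Finset.sum_const, Finset.card_univ, ← S.card, smul_eq_mul]
  -- the products are fixed point free or fix two points
  have hdich : ∀ p ∈ P, (Finset.univ.filter fun c : Ω => (p.1 * p.2) • c = c).card +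
      2 * (if IsTorusElt Ω (p.1 * p.2) then 1 else 0) = 2 := by
    intro p hp
    have hp' := hp
    simp only [hP, hI, Finset.mem_filter, Finset.mem_product, Finset.mem_univ, true_and] at hp'
    obtain ⟨⟨h1, h2⟩, h3⟩ := hp'
    by_cases hall : ∀ c : Ω, (p.1 * p.2) • c ≠ c
    · rw [if_pos ⟨hall, p.1, h1, (S.toData.invert_mul S.big h1 h2).1⟩,
        Finset.card_eq_zero.mpr (Finset.filter_eq_empty_iff.mpr fun {c} _ => hall c)]
    · rw [if_neg fun h => hall h.1, mul_zero, add_zero]
      push Not at hall
      obtain ⟨c, hc⟩ := hall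
      have hne : p.1 * p.2 ≠ 1 := fun h => by
        obtain ⟨z, hz⟩ := S.exists_fix h1
        refine h3 z ((hz z).mpr rfl) ?_
        rw [show p.2 = p.1 by rw [eq_inv_of_mul_eq_one_left h, inv_eq_of_mul_eq_one_left (orderOf_two_iff.mp h2).1]]
        exact (hz z).mpr rfl
      refine le_antisymm (S.toData.card_fixed_le hne) ?_
      have hcd : c ≠ p.1 • c := fun h => h3 c h.symm (((hfix p hp c).mp hc).trans h.symm)
      rw [← Finset.card_pair hcd]
      refine Finset.card_le_card fun z hz => Finset.mem_filter.mpr ⟨Finset.mem_univ _, ?_⟩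
      rcases Finset.mem_insert.mp hz with rfl | hz
      · exact hc
      · rw [Finset.mem_singleton.mp hz]
        refine (hfix p hp _).mpr ?_
        conv_rhs => rw [← mul_smul, (orderOf_two_iff.mp h1).1, one_smul]
        rw [← (hfix p hp c).mp hc, ← mul_smul, (orderOf_two_iff.mp h2).1, one_smul]
  -- the fibres
  have hQ : (P.filter fun p => IsTorusElt Ω (p.1 * p.2)).card =
      ∑ g ∈ Finset.univ.filter (fun g : G => IsTorusElt Ω g),
        Nat.card (Subgroup.centralizer ({g} : Set G)) := by
    rw [Finset.card_eq_sum_card_fiberwise (f := fun p : G × G => p.1 * p.2)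
      (t := Finset.univ.filter fun g : G => IsTorusElt Ω g)
      (fun p hp => Finset.mem_filter.mpr ⟨Finset.mem_univ _, (Finset.mem_filter.mp hp).2⟩)]
    refine Finset.sum_congr rfl fun g hg => ?_
    have hg' : IsTorusElt Ω g := (Finset.mem_filter.mp hg).2
    rw [← S.card_inverters hg', Nat.card_eq_fintype_card (α := {y : G // orderOf y = 2 ∧ y * g * y = g⁻¹}),
      Fintype.card_subtype]
    refine Finset.card_bij (fun p _ => p.1) (fun p hp => ?_) (fun p hp p' hp' e => ?_) fun y hy => ?_
    · obtain ⟨hp1, hp2⟩ := Finset.mem_filter.mp hp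
      simp only [hP, hI, Finset.mem_filter, Finset.mem_product, Finset.mem_univ, true_and] at hp1 ⊢
      refine ⟨hp1.1.1.1, ?_⟩
      rw [← hp2]
      exact (S.toData.invert_mul S.big hp1.1.1.1 hp1.1.1.2).1
    · refine Prod.ext e (mul_left_cancel (a := p.1) ?_)
      rw [(Finset.mem_filter.mp hp).2, e, (Finset.mem_filter.mp hp').2]
    · obtain ⟨hy1, hy2⟩ := (Finset.mem_filter.mp hy).2
      obtain ⟨hyy, -⟩ := orderOf_two_iff.mp hy1
      have hprod : y * (y * g) = g := by rw [← mul_assoc, hyy, one_mul]
      have hyg : orderOf (y * g) = 2 := orderOf_two_iff.mpr ⟨by rw [← mul_assoc, hy2, inv_mul_cancel],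
        fun e => by
          obtain ⟨z, hz⟩ := S.exists_fix hy1
          refine hg'.1 z ?_
          rw [← hprod, e, mul_one]
          exact (hz z).mpr rfl⟩
      refine ⟨(y, y * g), ?_, rfl⟩
      simp only [hP, hI, Finset.mem_filter, Finset.mem_product, Finset.mem_univ, true_and]
      refine ⟨⟨⟨⟨hy1, hyg⟩, fun z hz hz' => hg'.1 z ?_⟩, by rw [hprod]; exact hg'⟩, hprod⟩
      rw [← hprod, mul_smul, hz', hz]
  have hsum := Finset.sum_congr rfl hdich
  rw [Finset.sum_add_distrib, hinc, ← Finset.mul_sum, ← Finset.card_filter, hQ, Finset.sum_const,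
    smul_eq_mul, hPcard, hIcard] at hsum
  rw [S.toData.card_group, ← hh, ← he]
  have he3 := S.toData.three_le_e
  rw [← he] at he3
  obtain ⟨k, hk⟩ := Nat.exists_eq_add_of_le (show e ≤ e * e from Nat.le_mul_self e)
  rw [hk, Nat.add_sub_cancel_left] at hsum
  have hk' : (k : ℤ) = (e : ℤ) * e - e := by
    have : ((e * e : ℕ) : ℤ) = ((e + k : ℕ) : ℤ) := by rw [hk]
    push_cast at this
    linarith
  zify at hsum ⊢
  rw [hk'] at hsum
  linear_combination hsum

end Suz

end Cfsg.Agent.ZassSuz
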