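import Cfsg.Agent.Lib.ZassSuz.Setup
import Cfsg.Agent.Lib.ZassSuz.Roots
import Cfsg.Agent.Lib.Zassenhaus.Feit

/-!
# Functions induced from the kernel, and the principal series
-/

set_option autoImplicit false
set_option linter.style.haveILetI false
set_option linter.unusedSectionVars false

namespace Cfsg.Agent.ZassSuz

open Cfsg.Agent.Zass Cfsg.Agent.Char MulAction
open scoped Classical ComplexConjugate

universe u v

variable {G : Type u} [Group G] [Fintype G] {Ω : Type v} [MulAction G Ω] [Fintype Ω]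

/-- The trivial character. -/
noncomputable def oneIrr (K : Type u) [Group K] : Cfsg.IrrCharacter K := ⟨fun _ => 1, isIrrCharacter_one⟩

/-- Multiplicity of a character of a subgroup in a restricted irreducible character. -/
noncomputable def mult {H : Subgroup G} (χ : Cfsg.IrrCharacter G) (ψ : Cfsg.IrrCharacter H) : ℕ :=
  (IsCharacter.exists_classInner_nat (IsCharacter.restrict (IsIrrCharacter.isCharacter χ.2) H)
    (IsIrrCharacter.isCharacter ψ.2)).choose

theorem mult_spec {H : Subgroup G} (χ : Cfsg.IrrCharacter G) (ψ : Cfsg.IrrCharacter H) :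
    Cfsg.classInner (fun x : H => (χ : G → ℂ) x) (ψ : H → ℂ) = mult χ ψ :=
  (IsCharacter.exists_classInner_nat (IsCharacter.restrict (IsIrrCharacter.isCharacter χ.2) H)
    (IsIrrCharacter.isCharacter ψ.2)).choose_spec

theorem mult_spec' {H : Subgroup G} (χ : Cfsg.IrrCharacter G) (ψ : Cfsg.IrrCharacter H) :
    Cfsg.classInner (ψ : H → ℂ) (fun x : H => (χ : G → ℂ) x) = mult χ ψ := by
  rw [← classInner_conj_symm, mult_spec, map_natCast]

theorem restrict_eq_sum {H : Subgroup G} (χ : Cfsg.IrrCharacter G) (x : H) :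
    (χ : G → ℂ) x = ∑ ψ : Cfsg.IrrCharacter H, (mult χ ψ : ℂ) * (ψ : H → ℂ) x := by
  have h := congrFun (IsCharacter.eq_sum (IsCharacter.restrict (IsIrrCharacter.isCharacter χ.2) H)) x
  simp only [Finset.sum_apply, Pi.smul_apply, smul_eq_mul, mult_spec] at h
  exact h

theorem inner_ind_irr {H : Subgroup G} (ψ lam : Cfsg.IrrCharacter H) (c : ℕ) (χ : Cfsg.IrrCharacter G) :
    Cfsg.classInner (Cfsg.indFun H ((ψ : H → ℂ) - (c : ℂ) • (lam : H → ℂ))) (χ : G → ℂ) =
      (((mult χ ψ : ℤ) - c * mult χ lam : ℤ) : ℂ) := by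
  rw [classInner_indFun_left _ _ (IsCharacter.isClassFunction (IsIrrCharacter.isCharacter χ.2)),
    classInner_sub_left, classInner_smul_left, mult_spec', mult_spec']
  push_cast
  ring

namespace Suz

variable {a b : Ω} {H : Subgroup G} (S : Suz a b H)
include S

/-- The decomposition of the point stabiliser. -/
theorem decomp : Function.Bijective (fun p : H × two (G := G) a b =>
    (⟨(p.1 : G) * p.2, mul_mem (S.le p.1.2) (mem_two.mp p.2.2).1⟩ : stabilizer G a)) := by
  refine (Nat.bijective_iff_injective_and_card _).mpr ⟨?_, by rw [Nat.card_prod, S.toData.card_stab]⟩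
  rintro ⟨u, k⟩ ⟨u', k'⟩ h
  have h' : (u : G) * k = u' * k' := congrArg Subtype.val h
  have hmem : (k : G) * (k' : G)⁻¹ ∈ H := by
    rw [show (k : G) * (k' : G)⁻¹ = (u : G)⁻¹ * ((u : G) * k) * (k' : G)⁻¹ by group, h',
      show (u : G)⁻¹ * ((u' : G) * k') * (k' : G)⁻¹ = (u : G)⁻¹ * u' by group]
    exact mul_mem (inv_mem u.2) u'.2
  have hk : k = k' := by
    by_contra hne
    refine S.ne ((S.fixed _ hmem (fun e => hne (Subtype.ext (mul_inv_eq_one.mp e))) b ?_).symm)
    exact (mem_two.mp (mul_mem k.2 (inv_mem k'.2))).2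
  subst hk
  exact Prod.ext (Subtype.ext (mul_right_cancel h')) rfl

theorem ind_apply {f : H → ℂ} (hf : Cfsg.IsClassFunction H f) {u : H} (hu : u ≠ 1) :
    Cfsg.indFun H f u = ∑ k : two (G := G) a b, f (S.act k u) := by
  have key : ∀ y : G, y ∉ stabilizer G a → Cfsg.extendByZero H f (y⁻¹ * u * y) = 0 := by
    intro y hy
    refine extendByZero_not_mem _ f fun h => hu (Subtype.ext ?_)
    exact S.toData.ti (g := y⁻¹) (fun hy' => hy (by simpa using inv_mem hy')) u.2 (by rwa [inv_inv])
  have hsum : ∑ y : G, Cfsg.extendByZero H f (y⁻¹ * u * y) =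
      ∑ p : H × two (G := G) a b, Cfsg.extendByZero H f (((p.1 : G) * p.2)⁻¹ * u * ((p.1 : G) * p.2)) := by
    rw [← Finset.sum_subset (Finset.subset_univ (Finset.univ.filter fun y : G => y ∈ stabilizer G a))
      (fun y _ hy => key y (fun h => hy (Finset.mem_filter.mpr ⟨Finset.mem_univ _, h⟩)))]
    rw [Finset.sum_subtype (p := fun y => y ∈ stabilizer G a) _ (fun y => by simp)]
    exact (Fintype.sum_bijective _ S.decomp _ _ fun p => rfl).symm
  have hterm : ∀ (v : H) (k : two (G := G) a b),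
      Cfsg.extendByZero H f (((v : G) * k)⁻¹ * u * ((v : G) * k)) = f (S.act k⁻¹ u) := by
    intro v k
    have e : ((v : G) * k)⁻¹ * u * ((v : G) * k) =
        ((S.act k⁻¹ v⁻¹ * S.act k⁻¹ u * (S.act k⁻¹ v⁻¹)⁻¹ : H) : G) := by
      simp only [Subgroup.coe_mul, Subgroup.coe_inv, coe_act, mul_inv_rev, inv_inv]
      group
    rw [e, extendByZero_coe, hf]
  rw [indFun_apply, hsum, Fintype.sum_prod_type, Finset.sum_congr rfl fun v _ => Finset.sum_congr rfl fun k _ =>
    hterm v k, Finset.sum_const, Finset.card_univ, nsmul_eq_mul, ← Nat.card_eq_fintype_card, ← mul_assoc,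
    inv_mul_cancel₀ (Nat.cast_ne_zero.mpr Nat.card_pos.ne'), one_mul]
  exact Fintype.sum_equiv (Equiv.inv _) _ _ fun _ => rfl

theorem inner_ind_zero {f f' : H → ℂ} (hf : f 1 = 0) (hf' : Cfsg.IsClassFunction H f') :
    Cfsg.classInner (Cfsg.indFun H f) (Cfsg.indFun H f') =
      ∑ k : two (G := G) a b, Cfsg.classInner f (fun x => f' (S.act k x)) := by
  rw [classInner_indFun_left _ _ (isClassFunction_indFun _ f')]
  simp only [Cfsg.classInner]
  rw [← Finset.mul_sum, Finset.sum_comm]
  congr 1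
  refine Finset.sum_congr rfl fun x _ => ?_
  rcases eq_or_ne x 1 with rfl | hx
  · simp [hf]
  · rw [S.ind_apply hf' hx, map_sum, Finset.mul_sum]

theorem norm_R : Cfsg.classInner (Cfsg.indFun H fun _ => (1 : ℂ)) (Cfsg.indFun H fun _ => (1 : ℂ)) =
    2 * (Nat.card (two (G := G) a b) : ℂ) := by
  rw [classInner_indFun_left _ _ (isClassFunction_indFun _ _)]
  simp only [Cfsg.classInner]
  have hval : ∀ x : H, (1 : ℂ) * conj (Cfsg.indFun H (fun _ => (1 : ℂ)) (x : G)) =
      (Nat.card (two (G := G) a b) : ℂ) +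
        if x = 1 then (Nat.card H : ℂ) * (Nat.card (two (G := G) a b) : ℂ) else 0 := by
    intro x
    rw [one_mul]
    split_ifs with hx
    · subst hx
      have hi : H.index = (Nat.card H + 1) * Nat.card (two (G := G) a b) := by
        refine Nat.eq_of_mul_eq_mul_right (Nat.card_pos (α := H)) ?_
        rw [Subgroup.index_mul_card, S.toData.card_group]
        ring
      rw [OneMemClass.coe_one, indFun_one_apply, hi]
      simp only [mul_one, map_natCast]
      push_cast
      ring
    · rw [S.ind_apply (fun _ _ => rfl) hx]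
      simp [Nat.card_eq_fintype_card]
  rw [Finset.sum_congr rfl fun x _ => hval x, Finset.sum_add_distrib, Finset.sum_const,
    Finset.sum_ite_eq', if_pos (Finset.mem_univ _), Finset.card_univ, nsmul_eq_mul,
    ← Nat.card_eq_fintype_card]
  have hh : (Nat.card H : ℂ) ≠ 0 := Nat.cast_ne_zero.mpr Nat.card_pos.ne'
  field_simp
  ring

/-- The projection to the two-point stabiliser. -/
noncomputable def proj : stabilizer G a →* two (G := G) a b :=
  MonoidHom.mk' (fun g => ((Equiv.ofBijective _ S.decomp).symm g).2) fun g g' => by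
    obtain ⟨⟨u, k⟩, rfl⟩ := (Equiv.ofBijective _ S.decomp).surjective g
    obtain ⟨⟨u', k'⟩, rfl⟩ := (Equiv.ofBijective _ S.decomp).surjective g'
    have e : Equiv.ofBijective _ S.decomp (u, k) * Equiv.ofBijective _ S.decomp (u', k') =
        Equiv.ofBijective _ S.decomp (u * S.act k u', k * k') := by
      refine Subtype.ext ?_
      show (u : G) * k * (u' * k') = ((u * S.act k u' : H) : G) * ((k * k' : two (G := G) a b) : G)
      simp [mul_assoc]
    rw [e]
    simp only [Equiv.symm_apply_apply]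

theorem proj_H {v : stabilizer G a} (hv : (v : G) ∈ H) : S.proj v = 1 := by
  have e : v = Equiv.ofBijective _ S.decomp ((⟨v, hv⟩ : H), 1) := Subtype.ext (mul_one _).symm
  rw [e]
  show ((Equiv.ofBijective _ S.decomp).symm _).2 = 1
  rw [Equiv.symm_apply_apply]

theorem proj_two (x : two (G := G) a b) : S.proj (emb a b x) = x := by
  have e : emb a b x = Equiv.ofBijective _ S.decomp (1, x) := Subtype.ext (one_mul _).symm
  rw [e]
  show ((Equiv.ofBijective _ S.decomp).symm _).2 = x
  rw [Equiv.symm_apply_apply]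

/-- The principal series. -/
theorem exists_known : ∃ P : Finset (Cfsg.IrrCharacter G),
    2 * P.card = Nat.card (two (G := G) a b) + 1 ∧ oneIrr G ∈ P ∧
    (∀ χ ∈ P, nuZ χ = 1) ∧ (∀ χ ∈ P, ∀ u : H, u ≠ 1 → (χ : G → ℂ) u = 1) ∧
    ∀ χ ∈ P, χ ≠ oneIrr G → (χ : G → ℂ) 1 = (Nat.card H : ℂ) + 1 := by
  obtain ⟨s, hs⟩ := S.toData.exists_swap
  letI : CommGroup (two (G := G) a b) :=
    { (inferInstance : Group (two (G := G) a b)) with mul_comm := S.two_comm }
  haveI : NeZero (Monoid.exponent (two (G := G) a b) : ℂ) :=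
    ⟨Nat.cast_ne_zero.mpr Monoid.exponent_ne_zero_of_finite⟩
  haveI : Finite (two (G := G) a b →* ℂˣ) := Nat.finite_of_card_ne_zero (by
    rw [CommGroup.card_monoidHom_of_hasEnoughRootsOfUnity]; exact Nat.card_pos.ne')
  haveI : Fintype (two (G := G) a b →* ℂˣ) := Fintype.ofFinite _
  let μ : (two (G := G) a b →* ℂˣ) → stabilizer G a → ℂ := fun f g => (f (S.proj g) : ℂ)
  have hμ : ∀ f, Cfsg.IsIrrCharacter _ (μ f) := fun f => isIrrCharacter_linear (f.comp S.proj)
  have hμH : ∀ f, ∀ v : stabilizer G a, (v : G) ∈ H → μ f v = μ f 1 := fun f v hv => by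
    simp only [μ, S.proj_H hv, map_one]
  have hres : ∀ f, res a b (μ f) = fun x => (f x : ℂ) := fun f => funext fun x => by
    simp only [res, μ, S.proj_two]
  have hressig : ∀ f, (fun x => res a b (μ f) (sig hs x)) = fun x => ((f⁻¹ : two (G := G) a b →* ℂˣ) x : ℂ) := by
    intro f
    funext x
    simp only [hres, S.toData.sig_eq_inv S.even hs, map_inv, MonoidHom.inv_apply]
  have hlin : ∀ f g : two (G := G) a b →* ℂˣ,
      Cfsg.classInner (fun x => (f x : ℂ)) (fun x => (g x : ℂ)) = if f = g then 1 else 0 := by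
    intro f g
    split_ifs with h
    · subst h
      exact classInner_self_irr (isIrrCharacter_linear f)
    · exact classInner_irr_of_ne (isIrrCharacter_linear f) (isIrrCharacter_linear g) fun e =>
        h (MonoidHom.ext fun x => Units.ext (congrFun e x))
  have hinv : ∀ f : two (G := G) a b →* ℂˣ, f⁻¹ = f → f = 1 := by
    intro f hf
    refine MonoidHom.ext fun x => ?_
    obtain ⟨n, hn, -⟩ := eq_of_sq_eq S.odd x
    have h2 : f x * f x = 1 := by
      have := DFunLike.congr_fun hf x
      rw [MonoidHom.inv_apply] at this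
      nth_rewrite 2 [← this]
      exact mul_inv_cancel _
    rw [hn, map_pow, map_mul, h2, one_pow]
    rfl
  have hii : ∀ f : two (G := G) a b →* ℂˣ, f⁻¹⁻¹ = f := fun f => MonoidHom.ext fun x => by simp
  have hne1 : ∀ f : two (G := G) a b →* ℂˣ, f ≠ 1 → f⁻¹ ≠ 1 := fun f hf e => hf (by
    refine MonoidHom.ext fun x => ?_
    have := DFunLike.congr_fun e x
    simpa using this)
  let θ : (two (G := G) a b →* ℂˣ) → G → ℂ := fun f => Cfsg.indFun (stabilizer G a) (μ f)
  have hθirr : ∀ f, f ≠ 1 → Cfsg.IsIrrCharacter G (θ f) := by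
    intro f hf
    refine IsCharacter.isIrr_of_norm_one (isCharacter_indFun _ (IsIrrCharacter.isCharacter (hμ f))) ?_
    rw [S.toData.norm_ind (hμ f) (hμH f) hs, if_neg]
    rw [hressig, hres]
    exact fun e => hf (hinv f (MonoidHom.ext fun x => Units.ext (congrFun e x)))
  have hθeq : ∀ f g, f ≠ 1 → g ≠ 1 → (θ f = θ g ↔ g = f ∨ g = f⁻¹) := by
    intro f g hf hg
    have h := S.toData.inner_ind (IsCharacter.isClassFunction (IsIrrCharacter.isCharacter (hμ f)))
      (IsCharacter.isClassFunction (IsIrrCharacter.isCharacter (hμ g))) (hμH f) (hμH g) hs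
    rw [hressig, hres, hres, hlin, hlin] at h
    change Cfsg.classInner (θ f) (θ g) = _ at h
    constructor
    · intro e
      by_contra hne
      push Not at hne
      rw [e, classInner_self_irr (hθirr g hg), if_neg (Ne.symm hne.1),
        if_neg fun e' => hne.2 (by rw [e', hii])] at h
      norm_num at h
    · intro hor
      by_contra hne
      rw [classInner_irr_of_ne (hθirr f hf) (hθirr g hg) hne] at h
      rcases hor with rfl | rfl
      · rw [if_pos rfl, if_neg fun e => hf (hinv g e.symm)] at h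
        norm_num at h
      · rw [hii, if_pos rfl, if_neg fun e => hf (hinv f e.symm)] at h
        norm_num at h
  have hθ1 : ∀ f, θ f 1 = (Nat.card H : ℂ) + 1 := fun f => by
    rw [show θ f 1 = _ from S.toData.ind_one]
    simp [μ]
  have hθu : ∀ f, ∀ u : H, u ≠ 1 → θ f u = 1 := fun f u hu => by
    rw [show θ f (u : G) = _ from S.toData.ind_H (hμH f) u.2 fun e => hu (Subtype.ext e)]
    simp [μ]
  have hθreal : ∀ f, f ≠ 1 → ∀ g, conj (θ f g) = θ f g := by
    intro f hf g
    have hc : conj (θ f g) = θ f⁻¹ g := by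
      simp only [θ, indFun_apply, map_mul, map_inv₀, map_natCast, map_sum]
      congr 1
      refine Finset.sum_congr rfl fun y _ => ?_
      by_cases hy : y⁻¹ * g * y ∈ stabilizer G a
      · rw [extendByZero_mem _ _ hy, extendByZero_mem _ _ hy]
        simp only [μ, MonoidHom.inv_apply, Units.val_inv_eq_inv_val]
        refine (Complex.inv_eq_conj ?_).symm
        refine norm_eq_one_of_pow (m := Nat.card (two (G := G) a b)) Nat.card_pos.ne' ?_
        rw [← Units.val_pow_eq_pow_val, ← map_pow, pow_card_eq_one', map_one, Units.val_one]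
      · rw [extendByZero_not_mem _ _ hy, extendByZero_not_mem _ _ hy, map_zero]
    rw [hc, (hθeq f f⁻¹ hf (hne1 f hf)).mpr (Or.inr rfl)]
  set P₁ : Finset (Cfsg.IrrCharacter G) := ((Finset.univ.erase (1 : two (G := G) a b →* ℂˣ)).attach).image
    fun f => ⟨θ f.1, hθirr f.1 (Finset.ne_of_mem_erase f.2)⟩ with hP₁
  have hmem : ∀ χ ∈ P₁, ∃ f, f ≠ 1 ∧ (χ : G → ℂ) = θ f := fun χ hχ => by
    obtain ⟨f, -, rfl⟩ := Finset.mem_image.mp hχ
    exact ⟨f.1, Finset.ne_of_mem_erase f.2, rfl⟩
  have hcard : 2 * P₁.card + 1 = Nat.card (two (G := G) a b) := by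
    have h1 : (Finset.univ.erase (1 : two (G := G) a b →* ℂˣ)).attach.card = 2 * P₁.card := by
      rw [Finset.card_eq_sum_card_image (fun f : {x // x ∈ Finset.univ.erase (1 : two (G := G) a b →* ℂˣ)} =>
        (⟨θ f.1, hθirr f.1 (Finset.ne_of_mem_erase f.2)⟩ : Cfsg.IrrCharacter G)), ← hP₁,
        Finset.sum_const_nat (m := 2), mul_comm]
      intro χ hχ
      obtain ⟨f, -, rfl⟩ := Finset.mem_image.mp hχ
      have hf := Finset.ne_of_mem_erase f.2
      rw [Finset.card_eq_two]
      refine ⟨f, ⟨f.1⁻¹, Finset.mem_erase.mpr ⟨hne1 f.1 hf, Finset.mem_univ _⟩⟩,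
        fun e => hf (hinv _ (congrArg Subtype.val e).symm), ?_⟩
      ext g
      simp only [Finset.mem_filter, Finset.mem_attach, true_and, Finset.mem_insert, Finset.mem_singleton,
        Subtype.ext_iff]
      rw [eq_comm, hθeq f g hf (Finset.ne_of_mem_erase g.2)]
    rw [Finset.card_attach, Finset.card_erase_of_mem (Finset.mem_univ _), Finset.card_univ,
      ← Nat.card_eq_fintype_card, CommGroup.card_monoidHom_of_hasEnoughRootsOfUnity] at h1
    have := S.toData.three_le_e
    omega
  have hone : oneIrr G ∉ P₁ := fun h => by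
    obtain ⟨f, -, e⟩ := hmem _ h
    have h1 := congrFun e 1
    rw [hθ1] at h1
    have h2 : ((Nat.card H : ℕ) : ℂ) = 0 := by
      change (1 : ℂ) = _ at h1
      linear_combination -h1
    exact Nat.card_pos.ne' (Nat.cast_eq_zero.mp h2)
  refine ⟨insert (oneIrr G) P₁, by rw [Finset.card_insert_of_notMem hone]; omega,
    Finset.mem_insert_self _ _, fun χ hχ => ?_, fun χ hχ u hu => ?_, fun χ hχ hne => ?_⟩
  · rcases Finset.mem_insert.mp hχ with rfl | hχ
    · have h1 : nu (oneIrr G) = 1 := nu_eq_one (d := 1) (fun g => map_one _) Nat.cast_one.symm odd_one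
      simp [nuZ, h1]
    · obtain ⟨f, hf, e⟩ := hmem χ hχ
      have h1 : nu χ = 1 := nu_eq_one (d := Nat.card H + 1) (fun g => by rw [e]; exact hθreal f hf g)
        (by rw [e, hθ1]; push_cast; rfl) S.even.add_one
      simp [nuZ, h1]
  · rcases Finset.mem_insert.mp hχ with rfl | hχ
    · rfl
    · obtain ⟨f, -, e⟩ := hmem χ hχ
      rw [e, hθu f u hu]
  · rcases Finset.mem_insert.mp hχ with rfl | hχ
    · exact absurd rfl hne
    · obtain ⟨f, -, e⟩ := hmem χ hχ
      rw [e, hθ1]

end Suz

end Cfsg.Agent.ZassSuz
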