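import Cfsg.Agent.Lib.ZassSuz.Count

/-!
# The exponent is odd
-/

set_option autoImplicit false
set_option linter.style.haveILetI false
set_option linter.unusedSectionVars false

namespace Cfsg.Agent.ZassSuz

open Cfsg.Agent.Zass MulAction
open scoped Classical

universe u v

variable {G : Type u} [Group G] [Fintype G] {Ω : Type v} [MulAction G Ω] [Fintype Ω]

namespace Suz

variable {a b : Ω} {H : Subgroup G} (S : Suz a b H)
include S

theorem odd_exponent {n : ℕ} (hn : Nat.card (two (G := G) a b) + 1 = 2 ^ n) : Odd n := by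
  set e := Nat.card (two (G := G) a b) with he
  obtain ⟨n', hn', hn''⟩ := S.exists_pow
  rw [← he, hn] at hn''
  have hnn : n' = n := (Nat.pow_right_injective le_rfl hn'').symm
  rw [hnn] at hn'
  let Tor := {T : Subgroup G // IsTorus Ω T}
  haveI : Fintype Tor := Fintype.ofFinite Tor
  letI : MulAction G Tor :=
    { smul := fun y T => ⟨T.1.map (MulAut.conj y).toMonoidHom, T.2.map_conj y⟩
      one_smul := fun T => Subtype.ext (by
        show T.1.map (MulAut.conj (1 : G)).toMonoidHom = T.1
        ext z; simp)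
      mul_smul := fun y z T => Subtype.ext (by
        show T.1.map (MulAut.conj (y * z)).toMonoidHom =
          (T.1.map (MulAut.conj z).toMonoidHom).map (MulAut.conj y).toMonoidHom
        rw [Subgroup.map_map, map_mul]; rfl) }
  have hsmul : ∀ (y : G) (T : Tor), (y • T).1 = T.1.map (MulAut.conj y).toMonoidHom := fun _ _ => rfl
  have hmem : ∀ (y : G) (T : Tor) (z : G), z ∈ (y • T).1 ↔ y⁻¹ * z * y ∈ T.1 := by
    intro y T z
    rw [hsmul]
    simp only [Subgroup.mem_map, MulEquiv.toMonoidHom_eq_coe, MonoidHom.coe_coe, MulAut.conj_apply]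
    exact ⟨fun ⟨w, hw, h⟩ => by rw [← h]; simpa [mul_assoc] using hw, fun h => ⟨_, h, by group⟩⟩
  have hstab : ∀ T : Tor, stabilizer G T = Subgroup.normalizer (T.1 : Set G) := by
    intro T
    ext y
    rw [mem_stabilizer_iff, Subgroup.mem_normalizer_iff]
    constructor
    · intro h z
      have h' := hmem y T (y * z * y⁻¹)
      rw [h, show y⁻¹ * (y * z * y⁻¹) * y = z by group] at h'
      exact h'.symm
    · intro h
      refine Subtype.ext (Subgroup.ext fun z => ?_)
      rw [hmem, h]
      group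
  have hconst : ∀ (y : G) (T : Tor), Nat.card (y • T).1 = Nat.card T.1 := fun y T => by
    rw [hsmul, Subgroup.card_map_of_injective (MulAut.conj y).injective]
  let R := Quotient (orbitRel G Tor)
  haveI : Fintype R := Fintype.ofFinite R
  choose w hw hwd hwN using fun T : Tor => S.normalizer_card T.2
  let M : R → ℕ := fun r => Nat.card (orbit G r.out)
  have hM : ∀ r : R, M r * (Nat.card r.out.1 * w r.out) = Nat.card G := by
    intro r
    rw [← hwN, ← hstab, show M r = _ from Nat.card_coe_set_eq _, ← MulAction.index_stabilizer, Subgroup.index_mul_card]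
  have hGcard : Nat.card G = ((e + 1) ^ 2 + 1) * (e + 1) ^ 2 * e := by
    rw [S.toData.card_group, S.card_sq, ← he, mul_assoc]
  have hsumT : ∀ f : ℕ → ℕ, ∑ T : Tor, f (Nat.card T.1) = ∑ r : R, M r * f (Nat.card r.out.1) := by
    intro f
    have hmaps : ∀ T ∈ (Finset.univ : Finset Tor), (Quotient.mk _ T : R) ∈ (Finset.univ : Finset R) :=
      fun _ _ => Finset.mem_univ _
    rw [← Finset.sum_fiberwise_of_maps_to hmaps]
    refine Finset.sum_congr rfl fun r _ => ?_
    have hfib : (Finset.univ.filter fun T : Tor => (Quotient.mk _ T : R) = r) =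
        Finset.univ.filter fun T : Tor => T ∈ orbit G r.out := by
      refine Finset.filter_congr fun T _ => ?_
      rw [← orbitRel_apply]
      exact ⟨fun h => Quotient.exact (h.trans r.out_eq.symm),
        fun h => (Quotient.sound h).trans r.out_eq⟩
    rw [Finset.sum_const_nat (m := f (Nat.card r.out.1)), hfib, ← Fintype.card_subtype,
      ← Nat.card_eq_fintype_card]
    intro T hT
    rw [hfib] at hT
    obtain ⟨y, hy⟩ := (Finset.mem_filter.mp hT).2
    rw [← hy, hconst]
  let E : {g : G // IsTorusElt Ω g} ≃ Σ T : Tor, {τ : T.1 // τ ≠ 1} :=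
    { toFun := fun g => ⟨⟨_, ⟨g.1, g.2, rfl⟩⟩, ⟨g.1, Subgroup.mem_centralizer_singleton_iff.mpr rfl⟩,
        fun h => g.2.1 a (by rw [show g.1 = 1 from congrArg Subtype.val h, one_smul])⟩
      invFun := fun p => ⟨p.2.1, S.torus_elt p.1.2 p.2.1.2 fun h => p.2.2 (Subtype.ext h)⟩
      left_inv := fun g => rfl
      right_inv := fun ⟨⟨T, hT⟩, ⟨⟨τ, hτ⟩, hτ1⟩⟩ => by
        obtain rfl := S.torus_cent hT hτ fun h => hτ1 (Subtype.ext h)
        rfl }
  have hpunct : ∀ T : Tor, Fintype.card {τ : T.1 // τ ≠ 1} = Nat.card T.1 - 1 := fun T => by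
    rw [Fintype.card_subtype_compl, Fintype.card_subtype_eq, ← Nat.card_eq_fintype_card]
  have hS : 2 * ∑ r : R, M r * ((Nat.card r.out.1 - 1) * Nat.card r.out.1) = Nat.card G * (e + 1) := by
    rw [← hsumT fun t => (t - 1) * t, ← S.sum_torus_elt]
    congr 1
    rw [Finset.sum_subtype (p := fun g => IsTorusElt Ω g) (Finset.univ.filter fun g : G => IsTorusElt Ω g)
      (fun g => by simp), Fintype.sum_equiv E (fun g => Nat.card (Subgroup.centralizer ({(g : G)} : Set G)))
      (fun p => Nat.card p.1.1) (fun g => rfl), Fintype.sum_sigma]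
    refine Finset.sum_congr rfl fun T _ => ?_
    dsimp only
    rw [Finset.sum_const, Finset.card_univ, hpunct, smul_eq_mul]
  have hF : 2 * (∑ r : R, M r * (Nat.card r.out.1 - 1)) < Nat.card G := by
    have h1 : ∑ r : R, M r * (Nat.card r.out.1 - 1) = Nat.card {g : G // IsTorusElt Ω g} := by
      rw [← hsumT fun t => t - 1, Nat.card_congr E, Nat.card_sigma]
      exact Finset.sum_congr rfl fun T _ => by rw [Nat.card_eq_fintype_card (α := {τ : T.1 // τ ≠ 1}), hpunct]
    have h2 : Nat.card {g : G // IsTorusElt Ω g} ≤ Nat.card {g : G // ∀ c : Ω, g • c ≠ c} :=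
      Nat.card_le_card_of_injective (fun g => ⟨g.1, g.2.1⟩) fun g g' h => Subtype.ext (congrArg Subtype.val h :)
    have h3 := S.toData.two_mul_card_fpf
    have h4 : 0 < Nat.card H * (Nat.card H - 1) := by
      have := S.toData.two_le_h
      exact Nat.mul_pos (by omega) (by omega)
    omega
  have ht3 : ∀ r : R, 3 ≤ Nat.card r.out.1 := fun r => S.torus_three r.out.2
  have hGpos : (0 : ℚ) < Nat.card G := by exact_mod_cast Nat.card_pos
  have hMq : ∀ r : R, (M r : ℚ) * ((Nat.card r.out.1 : ℚ) * w r.out) = Nat.card G := fun r => by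
    exact_mod_cast hM r
  have hne : ∀ r : R, (Nat.card r.out.1 : ℚ) ≠ 0 ∧ (w r.out : ℚ) ≠ 0 := fun r => by
    have := ht3 r
    rcases hw r.out with h | h <;> exact ⟨Nat.cast_ne_zero.mpr (by omega), by rw [h]; norm_num⟩
  refine torus_arith (ι := R) n (e + 1) hn' hn (fun r => Nat.card r.out.1) (fun r => w r.out) M ht3
    (fun r => S.torus_odd r.out.2) (fun r => hw r.out) (fun r => hwd r.out)
    (fun r => by rw [← S.card_sq]; exact S.torus_dvd r.out.2) ?_
    (fun r => by rw [Nat.add_sub_cancel, hM, hGcard]) ?_ ?_ ?_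
  · intro r r' hrr
    refine S.torus_coprime r.out.2 r'.out.2 fun y h => hrr ?_
    rw [← r.out_eq, ← r'.out_eq]
    exact (Quotient.sound (orbitRel_apply.mpr ⟨y, Subtype.ext h⟩)).symm
  · intro r
    set T : Tor := r.out with hT
    letI : MulAction T.1 {T' : orbit G T // T'.1 ≠ T} :=
      { smul := fun τ T' => ⟨(τ : G) • T'.1, fun e => T'.2 (by
            have h1 : (τ : G) • T'.1.1 = T := e
            have h2 : (τ : G) • T = T := mem_stabilizer_iff.mp ((hstab T) ▸ Subgroup.le_normalizer τ.2)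
            exact (smul_left_cancel_iff (τ : G)).mp (h1.trans h2.symm))⟩
        one_smul := fun T' => Subtype.ext (one_smul G T'.1)
        mul_smul := fun σ τ T' => Subtype.ext (mul_smul (σ : G) (τ : G) T'.1) }
    have hfree : ∀ (τ : T.1) (T' : {T' : orbit G T // T'.1 ≠ T}), τ • T' = T' → τ = 1 := by
      intro τ T' h
      by_contra hτ1
      have hτ0 : (τ : G) ≠ 1 := fun e => hτ1 (Subtype.ext e)
      have h' : (τ : G) • T'.1.1 = T'.1.1 :=
        congrArg (fun z : {T' : orbit G T // T'.1 ≠ T} => z.1.1) h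
      have hτN : (τ : G) ∈ Subgroup.normalizer (T'.1.1.1 : Set G) := hstab T'.1.1 ▸ mem_stabilizer_iff.mpr h'
      haveI : (T'.1.1.1.subgroupOf (Subgroup.normalizer (T'.1.1.1 : Set G))).Normal := by
        exact Subgroup.normal_in_normalizer
      have hidx : (T'.1.1.1.subgroupOf (Subgroup.normalizer (T'.1.1.1 : Set G))).index = w T'.1.1 := by
        refine Nat.eq_of_mul_eq_mul_left (Nat.card_pos (α := T'.1.1.1)) ?_
        rw [← hwN, ← Nat.card_congr (Subgroup.subgroupOfEquivOfLe Subgroup.le_normalizer).toEquiv,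
          Subgroup.card_mul_index]
      have hpow := Subgroup.pow_index_mem (T'.1.1.1.subgroupOf (Subgroup.normalizer (T'.1.1.1 : Set G)))
        (⟨(τ : G), hτN⟩ : Subgroup.normalizer (T'.1.1.1 : Set G))
      rw [hidx, Subgroup.mem_subgroupOf, Subgroup.coe_pow] at hpow
      change (τ : G) ^ w T'.1.1 ∈ T'.1.1.1 at hpow
      have hcop : (orderOf (τ : G)).Coprime (w T'.1.1) := by
        have hodd : Odd (orderOf (τ : G)) := S.fpf_odd (S.torus_fpf T.2 τ.2 hτ0)
        rcases hw T'.1.1 with h | h <;> rw [h]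
        · exact Nat.coprime_two_right.mpr hodd
        · rw [show 4 = 2 ^ 2 by rfl]; exact Nat.Coprime.pow_right _ (Nat.coprime_two_right.mpr hodd)
      obtain ⟨m, hm⟩ := exists_pow_eq_self_of_coprime hcop.symm
      have hτT' : (τ : G) ∈ T'.1.1.1 := hm ▸ pow_mem hpow m
      refine T'.2 (Subtype.ext ?_)
      rw [← S.torus_cent T'.1.1.2 hτT' hτ0, S.torus_cent T.2 τ.2 hτ0]
    have h := Cfsg.Agent.ZassAb.card_dvd_of_free hfree
    have hcard : Nat.card {T' : orbit G T // T'.1 ≠ T} + 1 = M r := by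
      haveI := Fintype.ofFinite (orbit G T)
      have e : Nat.card {T' : orbit G T // T'.1 ≠ T} =
          Nat.card {T' : orbit G T // T' ≠ ⟨T, mem_orbit_self T⟩} :=
        Nat.card_congr (Equiv.subtypeEquivRight fun T' =>
          ⟨fun h e' => h (congrArg Subtype.val e'), fun h e' => h (Subtype.ext e')⟩)
      rw [e, Nat.card_eq_fintype_card, Fintype.card_subtype_compl, Fintype.card_subtype_eq,
        show M r = Fintype.card (orbit G T) from Nat.card_eq_fintype_card]
      exact Nat.sub_add_cancel (Fintype.card_pos_iff.mpr ⟨⟨T, mem_orbit_self T⟩⟩)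
    rw [← hcard]
    push_cast
    rw [add_sub_cancel_right]
    exact_mod_cast h
  · have h := congrArg (Nat.cast : ℕ → ℚ) hS
    push_cast at h
    have hterm : ∀ r : R, ((M r : ℚ) * (((Nat.card r.out.1 - 1 : ℕ) : ℚ) * Nat.card r.out.1)) =
        (Nat.card G : ℚ) * (((Nat.card r.out.1 : ℚ) - 1) / w r.out) := fun r => by
      obtain ⟨-, h2⟩ := hne r
      rw [← hMq r, Nat.cast_sub (by have := ht3 r; omega : 1 ≤ Nat.card r.out.1)]
      field_simp
      push_cast
      ring
    rw [Finset.sum_congr rfl fun r _ => hterm r, ← Finset.mul_sum] at h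
    refine mul_left_cancel₀ hGpos.ne' ?_
    push_cast
    linarith
  · have h : ((2 * ∑ r : R, M r * (Nat.card r.out.1 - 1) : ℕ) : ℚ) < (Nat.card G : ℚ) := by
      exact_mod_cast hF
    push_cast at h
    have hterm : ∀ r : R, (M r : ℚ) * ((Nat.card r.out.1 - 1 : ℕ) : ℚ) =
        (Nat.card G : ℚ) * (((Nat.card r.out.1 : ℚ) - 1) / ((Nat.card r.out.1 : ℚ) * w r.out)) := fun r => by
      obtain ⟨h1, h2⟩ := hne r
      rw [← hMq r, Nat.cast_sub (by have := ht3 r; omega : 1 ≤ Nat.card r.out.1)]
      field_simp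
      push_cast
      ring
    rw [Finset.sum_congr rfl fun r _ => hterm r, ← Finset.mul_sum] at h
    refine lt_of_mul_lt_mul_left ?_ hGpos.le
    linarith

end Suz

end Cfsg.Agent.ZassSuz
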