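import Cfsg.Agent.Lib.ZassAbelian.Cyclic
import Cfsg.Agent.Lib.Zassenhaus.Involutions
import Cfsg.Agent.Lib.Suzuki2.Structure

/-!
# Zassenhaus groups with a nonabelian kernel: the Suzuki 2-group
-/

set_option autoImplicit false
set_option linter.style.haveILetI false
set_option linter.unusedSectionVars false

namespace Cfsg.Agent.ZassSuz

open Cfsg.Agent.Zass MulAction
open scoped Classical

universe u v

variable {G : Type u} [Group G] [Fintype G] {Ω : Type v} [MulAction G Ω] [Fintype Ω]

/-- A simple Zassenhaus group with nonabelian kernel. -/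
structure Suz (a b : Ω) (H : Subgroup G) : Prop extends Zass.Data a b H where
  hna : ∃ u ∈ H, ∃ v ∈ H, u * v ≠ v * u
  simple : IsSimpleGroup G

theorem Suz.of_ker {a b : Ω} {H : Subgroup G} (D : ZassKer.Ker a b H) [IsSimpleGroup G]
    (hna : ∃ u ∈ H, ∃ v ∈ H, u * v ≠ v * u) : Suz a b H := by
  refine ⟨D.data (Nat.not_even_iff_odd.mp fun hev => ?_), hna, inferInstance⟩
  obtain ⟨u, hu, v, hv, h⟩ := hna
  exact h (D.comm_of_even hev u hu v hv)

namespace Suz

variable {a b : Ω} {H : Subgroup G} (S : Suz a b H)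
include S

theorem ker : ZassKer.Ker a b H :=
  ⟨S.zg, S.ne, S.le, S.card, S.fixed, fun _ hg _ hu => S.toData.conj_mem hg hu⟩

theorem big : 2 * Nat.card (two (G := G) a b) < Nat.card H - 1 := by
  by_contra h
  obtain ⟨u, hu, v, hv, huv⟩ := S.hna
  exact huv (S.ker.comm_of_half (not_lt.mp h) u hu v hv)

theorem even : Even (Nat.card H) := S.toData.even_of_big S.big

theorem isp : IsPGroup 2 H := (S.toData.feit S.big).1

theorem hna' : ∃ x y : H, x * y ≠ y * x := by
  obtain ⟨u, hu, v, hv, huv⟩ := S.hna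
  exact ⟨⟨u, hu⟩, ⟨v, hv⟩, fun e => huv (congrArg Subtype.val e)⟩

theorem two_comm (x y : two (G := G) a b) : x * y = y * x := by
  obtain ⟨s, hs⟩ := S.toData.exists_swap
  have h := (sig hs).map_mul x y
  rw [S.toData.sig_eq_inv S.even hs, S.toData.sig_eq_inv S.even hs, S.toData.sig_eq_inv S.even hs,
    ← mul_inv_rev] at h
  exact inv_injective h

/-- Conjugation of the kernel by the two-point stabiliser. -/
def act : two (G := G) a b →* MulAut H where
  toFun k :=
    { toFun := fun u => ⟨k * u * (k : G)⁻¹, S.ker.normal k (mem_two.mp k.2).1 u u.2⟩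
      invFun := fun u => ⟨(k : G)⁻¹ * u * k, by
        simpa using S.ker.normal (k : G)⁻¹ (inv_mem (mem_two.mp k.2).1) u u.2⟩
      left_inv := fun u => Subtype.ext (by simp [mul_assoc])
      right_inv := fun u => Subtype.ext (by simp [mul_assoc])
      map_mul' := fun u v => Subtype.ext (by simp [mul_assoc]) }
  map_one' := MulEquiv.ext fun u => Subtype.ext (by simp)
  map_mul' k l := MulEquiv.ext fun u => Subtype.ext (by simp [mul_assoc])

@[simp] theorem coe_act (k : two (G := G) a b) (u : H) :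
    ((S.act k u : H) : G) = k * u * (k : G)⁻¹ := rfl

theorem act_free {k : two (G := G) a b} {u : H} (hu : u ≠ 1) (h : S.act k u = u) : k = 1 :=
  Subtype.ext (S.ker.eq_one_of_comm k.2 u.2 (fun e => hu (Subtype.ext e))
    (mul_inv_eq_iff_eq_mul.mp (congrArg Subtype.val h)))

theorem act_injective : Function.Injective S.act := by
  rw [injective_iff_map_eq_one]
  intro k hk
  obtain ⟨u, hu, hu1⟩ := (Subgroup.bot_or_exists_ne_one H).resolve_left S.toData.H_ne_bot
  exact S.act_free (u := ⟨u, hu⟩) (fun e => hu1 (congrArg Subtype.val e)) (by rw [hk]; rfl)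

theorem invol_mem {t : G} (ht : orderOf t = 2) (hta : t • a = a) : t ∈ H := by
  refine S.toData.mem_H hta fun c hc => ?_
  have h := S.toData.inv_fixed ht
  rw [if_pos S.even, Finset.card_eq_one] at h
  obtain ⟨d, hd⟩ := h
  have hm : ∀ z : Ω, t • z = z → z = d := fun z hz => by
    simpa using (Finset.ext_iff.mp hd z).mp (by simp [hz])
  rw [hm c hc, hm a hta]

theorem card_invol :
    Nat.card {u : H // u ≠ 1 ∧ u * u = 1} = Nat.card (two (G := G) a b) := by
  rw [← S.toData.card_inv_fixing S.big a, ← Fintype.card_subtype, ← Nat.card_eq_fintype_card]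
  refine Nat.card_congr
    { toFun := fun u => ⟨(u.1 : G), orderOf_two_iff.mpr
        ⟨congrArg Subtype.val u.2.2, fun e => u.2.1 (Subtype.ext e)⟩, S.le u.1.2⟩
      invFun := fun t => ⟨⟨t.1, S.invol_mem t.2.1 t.2.2⟩,
        fun e => (orderOf_two_iff.mp t.2.1).2 (congrArg Subtype.val e),
        Subtype.ext (orderOf_two_iff.mp t.2.1).1⟩
      left_inv := fun _ => rfl
      right_inv := fun _ => rfl }

theorem exists_act_eq {x y : H} (hx : x ≠ 1) (hx2 : x * x = 1) (hy : y ≠ 1) (hy2 : y * y = 1) :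
    ∃ k : two (G := G) a b, S.act k x = y := by
  let f : two (G := G) a b → {u : H // u ≠ 1 ∧ u * u = 1} := fun k =>
    ⟨S.act k x, fun e => hx ((S.act k).injective (e.trans (map_one _).symm)),
      by rw [← map_mul, hx2, map_one]⟩
  have hf : Function.Injective f := fun k l h => by
    have h' : S.act k x = S.act l x := congrArg Subtype.val h
    refine (inv_mul_eq_one.mp (S.act_free hx ?_)).symm
    rw [map_mul, MulAut.mul_apply, h', ← MulAut.mul_apply, ← map_mul, inv_mul_cancel, map_one]
    rfl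
  obtain ⟨k, hk⟩ := ((Nat.bijective_iff_injective_and_card f).mpr ⟨hf, S.card_invol.symm⟩).2
    ⟨y, hy, hy2⟩
  exact ⟨k, congrArg Subtype.val hk⟩

/-- The kernel is a Suzuki 2-group. -/
def datum : Suzuki2.Datum H where
  isp := S.isp
  K := (S.act).range
  comm := by
    rintro ⟨_, k, rfl⟩ ⟨_, l, rfl⟩
    exact Subtype.ext (show S.act k * S.act l = S.act l * S.act k by
      rw [← map_mul, ← map_mul, S.two_comm])
  two := by
    have h3 := S.toData.three_le_e
    rw [← S.card_invol] at h3
    haveI : Nontrivial {u : H // u ≠ 1 ∧ u * u = 1} := Finite.one_lt_card_iff_nontrivial.mp (by omega)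
    obtain ⟨x, y, hxy⟩ := exists_pair_ne {u : H // u ≠ 1 ∧ u * u = 1}
    exact ⟨x.1, y.1, fun e => hxy (Subtype.ext e), x.2.1, x.2.2, y.2.1, y.2.2⟩
  reg := fun x y hx hx2 hy hy2 => by
    obtain ⟨k, hk⟩ := S.exists_act_eq hx hx2 hy hy2
    refine ⟨⟨S.act k, k, rfl⟩, hk, ?_⟩
    rintro ⟨_, l, rfl⟩ hl
    have hl' : S.act l x = y := hl
    refine Subtype.ext (congrArg S.act ?_)
    refine (inv_mul_eq_one.mp (S.act_free hx ?_)).symm
    rw [map_mul, MulAut.mul_apply, ← hk.trans hl'.symm, ← MulAut.mul_apply, ← map_mul,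
      inv_mul_cancel, map_one]
    rfl

/-- The involutions of the kernel together with one. -/
def V : Subgroup H := S.datum.V

theorem mem_V {x : H} : x ∈ S.V ↔ x * x = 1 := Iff.rfl

theorem V_central {x : H} (hx : x ∈ S.V) : x ∈ Subgroup.center H :=
  S.datum.involution_central hx

theorem sq_mem (x : H) : x * x ∈ S.V := S.datum.sq_mem_V S.hna' x

theorem center_eq : Subgroup.center H = S.V := S.datum.center_eq_V S.hna'

theorem act_mem (k : two (G := G) a b) {x : H} (hx : x ∈ S.V) : S.act k x ∈ S.V :=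
  S.datum.map_V _ hx

theorem act_free_mod {k : two (G := G) a b} (hk : k ≠ 1) {x : H} (h : x⁻¹ * S.act k x ∈ S.V) :
    x ∈ S.V :=
  S.datum.free_section S.datum.V_stable (k := ⟨S.act k, k, rfl⟩)
    (fun e => hk (S.act_injective ((congrArg Subtype.val e).trans (map_one _).symm))) h

theorem card_V : Nat.card S.V = Nat.card (two (G := G) a b) + 1 := by
  rw [V, ← S.datum.card_K_add_one, show Nat.card S.datum.K = Nat.card (two (G := G) a b) from
    (Nat.card_congr (MonoidHom.ofInjective S.act_injective).toEquiv).symm]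

theorem exists_pow : ∃ n, 2 ≤ n ∧ Nat.card (two (G := G) a b) + 1 = 2 ^ n := by
  haveI : Fact (Nat.Prime 2) := ⟨Nat.prime_two⟩
  obtain ⟨n, hn⟩ := IsPGroup.iff_card.mp (S.isp.to_subgroup S.V)
  rw [S.card_V] at hn
  refine ⟨n, ?_, hn⟩
  have h3 := S.toData.three_le_e
  by_contra hlt
  have := Nat.pow_le_pow_right (n := 2) (by norm_num) (show n ≤ 1 by omega)
  omega

theorem card_H : Nat.card H = (Nat.card (two (G := G) a b) + 1) ^ 2 ∨
    Nat.card H = (Nat.card (two (G := G) a b) + 1) ^ 3 := by
  rw [← S.card_V]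
  exact S.datum.card_eq S.hna'

theorem exists_V_ne_one : ∃ v ∈ S.V, v ≠ 1 := S.datum.exists_ne_one

/-- Every involution of the kernel has the same number of square roots. -/
theorem card_roots {z : H} (hz : z ∈ S.V) (hz1 : z ≠ 1) :
    Nat.card {x : H // x * x = z} * Nat.card (two (G := G) a b) + (Nat.card (two (G := G) a b) + 1) =
      Nat.card H := by
  let T : Finset H := Finset.univ.filter fun x => x ∉ S.V
  let B : Finset H := Finset.univ.filter fun v => v ≠ 1 ∧ v * v = 1
  have hmap : ∀ x ∈ T, x * x ∈ B := fun x hx => Finset.mem_filter.mpr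
    ⟨Finset.mem_univ _, (Finset.mem_filter.mp hx).2, S.sq_mem x⟩
  have hconst : ∀ w ∈ B, (T.filter fun x => x * x = w).card = Nat.card {x : H // x * x = z} := by
    intro w hw
    obtain ⟨hw1, hw2⟩ := (Finset.mem_filter.mp hw).2
    obtain ⟨k, hk⟩ := S.exists_act_eq hw1 hw2 hz1 hz
    rw [← Fintype.card_coe, ← Nat.card_eq_fintype_card]
    refine Nat.card_congr (Equiv.subtypeEquiv (S.act k).toEquiv fun x => ?_)
    simp only [Finset.mem_filter, T, Finset.mem_univ, true_and, MulEquiv.toEquiv_eq_coe,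
      EquivLike.coe_coe, ← map_mul]
    refine ⟨fun h => by rw [h.2, hk], fun h => ?_⟩
    have hxx : x * x = w := (S.act k).injective (h.trans hk.symm)
    exact ⟨fun hx => hw1 (hxx.symm.trans hx), hxx⟩
  have h1 := Finset.card_eq_sum_card_fiberwise hmap
  rw [Finset.sum_congr rfl hconst, Finset.sum_const, smul_eq_mul] at h1
  have h2 : B.card = Nat.card (two (G := G) a b) := by
    rw [← S.card_invol, Nat.card_eq_fintype_card, Fintype.card_subtype]
  have h3 := Finset.card_filter_add_card_filter_not (s := (Finset.univ : Finset H)) (fun x => x ∈ S.V)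
  rw [Finset.card_univ, ← Nat.card_eq_fintype_card, ← Fintype.card_subtype, ← Nat.card_eq_fintype_card] at h3
  rw [show Nat.card {x : H // x ∈ S.V} = Nat.card S.V from rfl, S.card_V] at h3
  change _ + T.card = _ at h3
  rw [h1, h2] at h3
  linarith

end Suz

end Cfsg.Agent.ZassSuz
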