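import Cfsg.Agent.Lib.ZassSuz.NotCube
import Cfsg.Agent.Lib.ZassSuz.Arith
import Mathlib.GroupTheory.Sylow
import Mathlib.GroupTheory.FixedPointFree

/-!
# The tori: strongly real elements without fixed points
-/

set_option autoImplicit false
set_option linter.style.haveILetI false
set_option linter.unusedSectionVars false

namespace Cfsg.Agent.ZassSuz

open Cfsg.Agent.Zass MulAction
open scoped Classical

universe u v

variable {G : Type u} [Group G] [Fintype G] {Ω : Type v} [MulAction G Ω] [Fintype Ω]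

/-- A fixed-point-free element inverted by an involution. -/
def IsTorusElt (Ω : Type v) [MulAction G Ω] (g : G) : Prop :=
  (∀ c : Ω, g • c ≠ c) ∧ ∃ x : G, orderOf x = 2 ∧ x * g * x = g⁻¹

/-- The centraliser of a torus element. -/
def IsTorus (Ω : Type v) [MulAction G Ω] (T : Subgroup G) : Prop :=
  ∃ g : G, IsTorusElt Ω g ∧ Subgroup.centralizer ({g} : Set G) = T

theorem IsTorusElt.conj {g : G} (hg : IsTorusElt Ω g) (y : G) : IsTorusElt Ω (y * g * y⁻¹) := by
  obtain ⟨hf, x, hx, hxg⟩ := hg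
  refine ⟨fun c hc => hf (y⁻¹ • c) ?_, y * x * y⁻¹, (MulEquiv.orderOf_eq (MulAut.conj y) x).trans hx, ?_⟩
  · rw [mul_smul, mul_smul, smul_eq_iff_eq_inv_smul] at hc
    exact hc
  · rw [conj_inv, ← hxg]; group

theorem IsTorus.map_conj {T : Subgroup G} (hT : IsTorus Ω T) (y : G) :
    IsTorus Ω (T.map (MulAut.conj y).toMonoidHom) := by
  obtain ⟨g, hg, rfl⟩ := hT
  refine ⟨y * g * y⁻¹, hg.conj y, ?_⟩
  ext z
  simp only [Subgroup.mem_map, MulEquiv.toMonoidHom_eq_coe, MonoidHom.coe_coe, MulAut.conj_apply,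
    Subgroup.mem_centralizer_singleton_iff]
  constructor
  · intro hz
    refine ⟨y⁻¹ * z * y, ?_, by group⟩
    calc y⁻¹ * z * y * g = y⁻¹ * (z * (y * g * y⁻¹)) * y := by group
      _ = y⁻¹ * (y * g * y⁻¹ * z) * y := by rw [hz]
      _ = g * (y⁻¹ * z * y) := by group
  · rintro ⟨w, hw, rfl⟩
    calc y * w * y⁻¹ * (y * g * y⁻¹) = y * (w * g) * y⁻¹ := by group
      _ = y * (g * w) * y⁻¹ := by rw [hw]
      _ = _ := by group

namespace Suz

variable {a b : Ω} {H : Subgroup G} (S : Suz a b H)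
include S

theorem exists_fix {x : G} (hx : orderOf x = 2) : ∃ c : Ω, ∀ z : Ω, x • z = z ↔ z = c := by
  have h := S.toData.inv_fixed hx
  rw [if_pos S.even, Finset.card_eq_one] at h
  obtain ⟨c, hc⟩ := h
  exact ⟨c, fun z => by simpa using Finset.ext_iff.mp hc z⟩

theorem comm_inv_fix {x : G} (hx : orderOf x = 2) {c : Ω} (hc : x • c = c) {w : G} (hw : w * x = x * w) :
    w • c = c := by
  obtain ⟨d, hd⟩ := S.exists_fix hx
  have h1 : w • c = d := (hd _).mp (by rw [← mul_smul, ← hw, mul_smul, hc])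
  rw [h1, (hd c).mp hc]

theorem fpf_odd {g : G} (hg : ∀ c : Ω, g • c ≠ c) : Odd (orderOf g) := by
  by_contra h
  obtain ⟨k, hk⟩ := Nat.not_odd_iff_even.mp h
  have hpos := orderOf_pos g
  have hx : orderOf (g ^ k) = 2 := by
    rw [orderOf_pow' g (by omega), hk, Nat.gcd_eq_right ⟨2, by ring⟩, ← two_mul, Nat.mul_div_cancel _ (by omega)]
  obtain ⟨c, hc⟩ := S.exists_fix hx
  exact hg c (S.comm_inv_fix hx ((hc c).mpr rfl) (by rw [← pow_succ, ← pow_succ']))

theorem cent_fpf {g : G} (hg : ∀ c : Ω, g • c ≠ c) {τ : G} (hτ : τ * g = g * τ) (hτ1 : τ ≠ 1) :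
    ∀ c : Ω, τ • c ≠ c := by
  intro c hc
  have h1 : τ • (g • c) = g • c := by rw [← mul_smul, hτ, mul_smul, hc]
  have h2 : τ • (g • g • c) = g • g • c := by rw [← mul_smul τ g, hτ, mul_smul, h1]
  have hgg : g • g • c = c := by
    by_contra hne
    exact hτ1 (three S.zg (Ne.symm (hg c)) (Ne.symm (hg (g • c))) (Ne.symm hne) hc h1 h2)
  obtain ⟨k, hk⟩ := S.fpf_odd hg
  refine hg c ?_
  have hmem : g ^ 2 ∈ stabilizer G c := by rw [mem_stabilizer_iff, pow_two, mul_smul, hgg]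
  have hgmem : g = (g ^ 2) ^ (k + 1) := by
    rw [← pow_mul, show 2 * (k + 1) = orderOf g + 1 by omega, pow_succ, pow_orderOf_eq_one, one_mul]
  rw [hgmem]
  exact mem_stabilizer_iff.mp (pow_mem hmem (k + 1))

theorem cent_odd {g : G} (hg : ∀ c : Ω, g • c ≠ c) :
    Odd (Nat.card (Subgroup.centralizer ({g} : Set G))) := by
  by_contra h
  haveI : Fact (Nat.Prime 2) := ⟨Nat.prime_two⟩
  obtain ⟨z, hz⟩ := exists_prime_orderOf_dvd_card' (G := Subgroup.centralizer ({g} : Set G)) 2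
    (Nat.not_odd_iff_even.mp h).two_dvd
  have hz' : orderOf (z : G) = 2 := by rw [Subgroup.orderOf_coe, hz]
  obtain ⟨c, hc⟩ := S.exists_fix hz'
  exact S.cent_fpf hg (Subgroup.mem_centralizer_singleton_iff.mp z.2) (orderOf_two_iff.mp hz').2 c
    ((hc c).mpr rfl)

/-- An involution normalising a fixed-point-free subgroup inverts it. -/
theorem inverts_of {T : Subgroup G} (hfpf : ∀ τ ∈ T, τ ≠ 1 → ∀ c : Ω, τ • c ≠ c) {y : G}
    (hy : orderOf y = 2) (hn : ∀ τ ∈ T, y * τ * y ∈ T) :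
    (∀ τ ∈ T, y * τ * y = τ⁻¹) ∧ ∀ σ ∈ T, ∀ τ ∈ T, σ * τ = τ * σ := by
  obtain ⟨hy2, -⟩ := orderOf_two_iff.mp hy
  let φ : T →* T :=
    { toFun := fun τ => ⟨y * τ * y, hn τ τ.2⟩
      map_one' := Subtype.ext (by simp [hy2])
      map_mul' := fun σ τ => Subtype.ext (by
        show y * ((σ : G) * τ) * y = y * σ * y * (y * τ * y)
        rw [show y * (σ : G) * y * (y * τ * y) = y * σ * (y * y) * τ * y by group, hy2]
        group) }
  have hinv : Function.Involutive φ := fun τ => Subtype.ext (by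
    show y * (y * τ * y) * y = (τ : G)
    rw [show y * (y * (τ : G) * y) * y = (y * y) * τ * (y * y) by group, hy2, one_mul, mul_one])
  have hfp : MonoidHom.FixedPointFree φ := fun τ hτ => by
    by_contra h1
    obtain ⟨c, hc⟩ := S.exists_fix hy
    refine hfpf τ τ.2 (fun e => h1 (Subtype.ext e)) c (S.comm_inv_fix hy ((hc c).mpr rfl) ?_)
    have h' : y * (τ : G) * y = τ := congrArg Subtype.val hτ
    calc (τ : G) * y = y * τ * y * y := by rw [h']
      _ = y * τ := by rw [mul_assoc, hy2, mul_one]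
  exact ⟨fun τ hτ => congrArg Subtype.val (congrFun (hfp.coe_eq_inv_of_involutive hinv) ⟨τ, hτ⟩),
    fun σ hσ τ hτ => congrArg Subtype.val (hfp.commute_all_of_involutive hinv ⟨σ, hσ⟩ ⟨τ, hτ⟩).eq⟩

variable {T : Subgroup G}

theorem torus_fpf (hT : IsTorus Ω T) {τ : G} (hτ : τ ∈ T) (hτ1 : τ ≠ 1) : ∀ c : Ω, τ • c ≠ c := by
  obtain ⟨g, hg, rfl⟩ := hT
  exact S.cent_fpf hg.1 (Subgroup.mem_centralizer_singleton_iff.mp hτ) hτ1

theorem torus_odd (hT : IsTorus Ω T) : Odd (Nat.card T) := by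
  obtain ⟨g, hg, rfl⟩ := hT
  exact S.cent_odd hg.1

theorem torus_inv (hT : IsTorus Ω T) : ∃ x : G, orderOf x = 2 ∧ (∀ τ ∈ T, x * τ * x = τ⁻¹) ∧
    ∀ σ ∈ T, ∀ τ ∈ T, σ * τ = τ * σ := by
  obtain ⟨g, ⟨hg, x, hx, hxg⟩, rfl⟩ := hT
  obtain ⟨hx2, -⟩ := orderOf_two_iff.mp hx
  refine ⟨x, hx, S.inverts_of (fun τ hτ => S.cent_fpf hg (Subgroup.mem_centralizer_singleton_iff.mp hτ)) hx
    fun τ hτ => ?_⟩
  rw [Subgroup.mem_centralizer_singleton_iff] at hτ ⊢
  have hgi : g = x * g⁻¹ * x := by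
    rw [← hxg, show x * (x * g * x) * x = (x * x) * g * (x * x) by group, hx2, one_mul, mul_one]
  have hτi : τ * g⁻¹ = g⁻¹ * τ := (Commute.inv_right (show Commute τ g from hτ)).eq
  conv_lhs => rw [hgi]
  conv_rhs => rw [hgi]
  calc x * τ * x * (x * g⁻¹ * x) = x * τ * (x * x) * g⁻¹ * x := by group
    _ = x * (g⁻¹ * τ) * x := by rw [hx2, mul_one, mul_assoc x, hτi]
    _ = x * g⁻¹ * (x * x) * τ * x := by rw [hx2]; group
    _ = _ := by group

theorem torus_elt (hT : IsTorus Ω T) {τ : G} (hτ : τ ∈ T) (hτ1 : τ ≠ 1) : IsTorusElt Ω τ := by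
  obtain ⟨x, hx, hxi, -⟩ := S.torus_inv hT
  exact ⟨S.torus_fpf hT hτ hτ1, x, hx, hxi τ hτ⟩

theorem torus_cent (hT : IsTorus Ω T) {τ : G} (hτ : τ ∈ T) (hτ1 : τ ≠ 1) :
    Subgroup.centralizer ({τ} : Set G) = T := by
  obtain ⟨-, -, -, hcomm⟩ := S.torus_inv hT
  obtain ⟨-, -, -, hcomm'⟩ := S.torus_inv (T := Subgroup.centralizer ({τ} : Set G))
    ⟨τ, S.torus_elt hT hτ hτ1, rfl⟩
  obtain ⟨g, hg, hgT⟩ := hT
  have hgmem : g ∈ T := hgT ▸ Subgroup.mem_centralizer_singleton_iff.mpr rfl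
  have hgτ : g ∈ Subgroup.centralizer ({τ} : Set G) :=
    Subgroup.mem_centralizer_singleton_iff.mpr (hcomm g hgmem τ hτ)
  refine le_antisymm (fun z hz => ?_) fun z hz => Subgroup.mem_centralizer_singleton_iff.mpr (hcomm z hz τ hτ)
  rw [← hgT, Subgroup.mem_centralizer_singleton_iff]
  exact hcomm' z hz g hgτ

theorem torus_ne_bot (hT : IsTorus Ω T) : ∃ τ ∈ T, τ ≠ 1 := by
  obtain ⟨g, hg, rfl⟩ := hT
  exact ⟨g, Subgroup.mem_centralizer_singleton_iff.mpr rfl, fun e => hg.1 a (by rw [e, one_smul])⟩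

theorem torus_three (hT : IsTorus Ω T) : 3 ≤ Nat.card T := by
  obtain ⟨τ, hτ, hτ1⟩ := S.torus_ne_bot hT
  have h := (Subgroup.one_lt_card_iff_ne_bot T).mpr fun e => hτ1 (Subgroup.mem_bot.mp (e ▸ hτ))
  obtain ⟨k, hk⟩ := S.torus_odd hT
  omega

theorem torus_dvd (hT : IsTorus Ω T) : Nat.card T ∣ Nat.card H + 1 := by
  rw [S.card, ← Nat.card_eq_fintype_card]
  refine Cfsg.Agent.ZassAb.card_dvd_of_free fun τ c hc => ?_
  by_contra h1
  exact S.torus_fpf hT τ.2 (fun e => h1 (Subtype.ext e)) c hc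

theorem torus_sylow (hT : IsTorus Ω T) {p : ℕ} [hp : Fact p.Prime] (hpT : p ∣ Nat.card T) :
    ∃ P : Sylow p G, (P : Subgroup G) ≤ T := by
  obtain ⟨τ, hτ⟩ := exists_prime_orderOf_dvd_card' (G := T) p hpT
  have hτ' : orderOf (τ : G) = p := by rw [Subgroup.orderOf_coe, hτ]
  have hτ1 : (τ : G) ≠ 1 := fun e => hp.out.one_lt.ne' (by rw [← hτ', e, orderOf_one])
  obtain ⟨P, hP⟩ := (IsPGroup.of_card (n := 1) (by rw [Nat.card_zpowers, hτ', pow_one]) :
    IsPGroup p (Subgroup.zpowers (τ : G))).exists_le_sylow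
  have hτP : (τ : G) ∈ (P : Subgroup G) := hP (Subgroup.mem_zpowers _)
  haveI : Nontrivial (P : Subgroup G) := ⟨⟨⟨_, hτP⟩, 1, fun e => hτ1 (congrArg Subtype.val e)⟩⟩
  haveI := P.2.center_nontrivial
  obtain ⟨z, hz⟩ := exists_ne (1 : Subgroup.center (P : Subgroup G))
  have hz1 : ((z : (P : Subgroup G)) : G) ≠ 1 := fun e => hz (Subtype.ext (Subtype.ext e))
  have hcom : ∀ w ∈ (P : Subgroup G), w * ((z : (P : Subgroup G)) : G) = ((z : (P : Subgroup G)) : G) * w :=
    fun w hw => congrArg Subtype.val (Subgroup.mem_center_iff.mp z.2 ⟨w, hw⟩)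
  have hzT : ((z : (P : Subgroup G)) : G) ∈ T := by
    rw [← S.torus_cent hT τ.2 hτ1]
    exact Subgroup.mem_centralizer_singleton_iff.mpr (hcom _ hτP).symm
  refine ⟨P, fun w hw => ?_⟩
  rw [← S.torus_cent hT hzT hz1]
  exact Subgroup.mem_centralizer_singleton_iff.mpr (hcom w hw)

theorem torus_coprime {T' : Subgroup G} (hT : IsTorus Ω T) (hT' : IsTorus Ω T')
    (hne : ∀ y : G, T.map (MulAut.conj y).toMonoidHom ≠ T') : Nat.Coprime (Nat.card T) (Nat.card T') := by
  refine Nat.coprime_of_dvd fun p hp h1 h2 => ?_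
  haveI := Fact.mk hp
  obtain ⟨P, hP⟩ := S.torus_sylow hT h1
  obtain ⟨P', hP'⟩ := S.torus_sylow hT' h2
  obtain ⟨y, hy⟩ := MulAction.exists_smul_eq G P P'
  obtain ⟨τ, hτ⟩ := exists_prime_orderOf_dvd_card' (G := T') p h2
  have hP'ne : (P' : Subgroup G) ≠ ⊥ := fun e => by
    have hle : p ∣ Nat.card (P' : Subgroup G) := P'.dvd_card_of_dvd_card (h2.trans T'.card_subgroup_dvd_card)
    rw [e, Subgroup.card_bot] at hle
    exact hp.not_dvd_one hle
  obtain ⟨w, hw, hw1⟩ := (Subgroup.bot_or_exists_ne_one _).resolve_left hP'ne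
  have hwT : w ∈ T.map (MulAut.conj y).toMonoidHom := by
    rw [← hy, Sylow.coe_subgroup_smul] at hw
    rw [Subgroup.mem_pointwise_smul_iff_inv_smul_mem] at hw
    exact ⟨_, hP hw, by simp [MulAut.smul_def, mul_assoc]⟩
  refine hne y ?_
  rw [← S.torus_cent (hT.map_conj y) hwT hw1, S.torus_cent hT' (hP' hw) hw1]

/-- The normaliser is the torus extended by the centraliser of an inverting involution. -/
theorem normalizer_card (hT : IsTorus Ω T) : ∃ w : ℕ, (w = 2 ∨ w = 4) ∧ w ∣ Nat.card T - 1 ∧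
    Nat.card (Subgroup.normalizer (T : Set G)) = Nat.card T * w := by
  obtain ⟨x, hx, hxi, hcomm⟩ := S.torus_inv hT
  obtain ⟨hx2, hx1⟩ := orderOf_two_iff.mp hx
  have hxinv : x⁻¹ = x := inv_eq_of_mul_eq_one_left hx2
  set N := Subgroup.normalizer (T : Set G) with hN
  set W := N ⊓ Subgroup.centralizer ({x} : Set G) with hW
  have hxN : x ∈ N := Subgroup.mem_normalizer_iff.mpr fun τ => by
    rw [hxinv]
    refine ⟨fun h => by rw [hxi τ h]; exact inv_mem h, fun h => ?_⟩
    have h' := hxi _ h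
    rw [show x * (x * τ * x) * x = (x * x) * τ * (x * x) by group, hx2, one_mul, mul_one] at h'
    rw [h']
    exact inv_mem h
  have hxW : x ∈ W := ⟨hxN, Subgroup.mem_centralizer_singleton_iff.mpr rfl⟩
  have hTW : ∀ τ ∈ T, τ * x = x * τ → τ = 1 := by
    intro τ hτ h
    by_contra h1
    obtain ⟨c, hc⟩ := S.exists_fix hx
    exact S.torus_fpf hT hτ h1 c (S.comm_inv_fix hx ((hc c).mpr rfl) h)
  have hTN : T ≤ N := Subgroup.le_normalizer
  have hWfree : ∀ u ∈ W, ∀ τ ∈ T, τ ≠ 1 → u * τ = τ * u → u = 1 := by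
    intro u hu τ hτ hτ1 h
    refine hTW u ?_ (Subgroup.mem_centralizer_singleton_iff.mp hu.2)
    rw [← S.torus_cent hT hτ hτ1]
    exact Subgroup.mem_centralizer_singleton_iff.mpr h
  obtain ⟨c, hc⟩ := S.exists_fix hx
  obtain ⟨g0, hg0⟩ : ∃ g0 : G, g0 • c = a := by
    rcases eq_or_ne c a with rfl | hca
    · exact ⟨1, one_smul _ _⟩
    · obtain ⟨g0, h0, -⟩ := move S.zg hca S.ne
      exact ⟨g0, h0⟩
  have hxH : g0 * x * g0⁻¹ ∈ H := by
    refine S.invol_mem ((MulEquiv.orderOf_eq (MulAut.conj g0) x).trans hx) ?_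
    rw [← hg0, mul_smul, mul_smul, inv_smul_smul, (hc c).mpr rfl]
  have hWH : ∀ u ∈ W, g0 * u * g0⁻¹ ∈ H := by
    intro u hu
    refine S.toData.centralizer_le hxH (fun e => hx1 (conj_eq_one_iff.mp e)) ?_
    rw [Subgroup.mem_centralizer_singleton_iff]
    calc g0 * u * g0⁻¹ * (g0 * x * g0⁻¹) = g0 * (u * x) * g0⁻¹ := by group
      _ = g0 * (x * u) * g0⁻¹ := by rw [Subgroup.mem_centralizer_singleton_iff.mp hu.2]
      _ = _ := by group
  have huniq : ∀ u ∈ W, u * u = 1 → u = 1 ∨ u = x := by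
    intro u hu h
    by_cases hu1 : u = 1
    · exact Or.inl hu1
    right
    have huo : orderOf u = 2 := orderOf_two_iff.mpr ⟨h, hu1⟩
    have hui := (S.inverts_of (fun τ hτ => S.torus_fpf hT hτ) huo fun τ hτ => by
      have := (Subgroup.mem_normalizer_iff.mp hu.1 τ).mp hτ
      rwa [inv_eq_of_mul_eq_one_left h] at this).1
    obtain ⟨τ, hτ, hτ1⟩ := S.torus_ne_bot hT
    have hmem : u * x = 1 := by
      refine hWfree _ (W.mul_mem hu hxW) τ hτ hτ1 ?_
      have h1 : x * τ * x = τ⁻¹ := hxi τ hτ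
      have h2 : u * τ⁻¹ * u = τ := by rw [hui _ (inv_mem hτ), inv_inv]
      have h3 : u * x * τ * x * u = τ := by
        rw [show u * x * τ * x * u = u * (x * τ * x) * u by group, h1, h2]
      conv_rhs => rw [← h3]
      rw [show u * x * τ * x * u * (u * x) = u * x * τ * x * (u * u) * x by group, h, mul_one,
        mul_assoc (u * x * τ), hx2, mul_one]
    rw [eq_inv_of_mul_eq_one_left hmem, hxinv]
  have hWcard : Nat.card W = 2 ∨ Nat.card W = 4 := by
    let φ : W → H := fun u => ⟨g0 * u * g0⁻¹, hWH u u.2⟩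
    have hφm : ∀ u v : W, φ (u * v) = φ u * φ v := fun u v => Subtype.ext (by
      show g0 * ((u : G) * v) * g0⁻¹ = g0 * u * g0⁻¹ * (g0 * v * g0⁻¹); group)
    have hφi : Function.Injective φ := fun u v e => Subtype.ext (by
      have h : g0 * (u : G) * g0⁻¹ = g0 * v * g0⁻¹ := congrArg Subtype.val e
      exact mul_left_cancel (mul_right_cancel h))
    have hφ1 : φ 1 = 1 := Subtype.ext (by show g0 * (1 : G) * g0⁻¹ = 1; group)
    have hsq : ∀ u : W, u * u = 1 ∨ u * u = ⟨x, hxW⟩ := by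
      intro u
      have h : φ ((u * u) * (u * u)) = φ 1 := by
        rw [hφm, hφm, hφ1]
        exact S.sq_mem (φ u)
      rcases huniq _ (u * u).2 (congrArg Subtype.val (hφi h)) with h1 | h1
      · exact Or.inl (Subtype.ext h1)
      · exact Or.inr (Subtype.ext h1)
    have hroot : ∀ u v : W, u * u = ⟨x, hxW⟩ → v * v = ⟨x, hxW⟩ → v = u ∨ v = u * ⟨x, hxW⟩ := by
      intro u v hu hv
      set z : H := φ ⟨x, hxW⟩ with hzdef
      have hz : z ∈ S.V := by
        rw [S.mem_V, hzdef, ← hφm, show (⟨x, hxW⟩ * ⟨x, hxW⟩ : W) = 1 from Subtype.ext hx2, hφ1]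
      have hz1 : z ≠ 1 := fun e => hx1 (congrArg Subtype.val (hφi (e.trans hφ1.symm) :))
      have hR : Nat.card {y : H // y * y = z} = Nat.card S.V := by
        have h := S.card_roots hz hz1
        have he3 := S.toData.three_le_e
        rw [S.card_sq, pow_two, add_mul, one_mul, add_left_inj] at h
        rw [S.card_V]
        rw [mul_comm _ (Nat.card (two (G := G) a b))] at h
        exact Nat.eq_of_mul_eq_mul_left (by omega) h
      let f : S.V → {y : H // y * y = z} := fun s => ⟨φ u * s, by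
        have hc' := Subgroup.mem_center_iff.mp (S.V_central s.2) (φ u)
        calc φ u * (s : H) * (φ u * s) = φ u * ((s : H) * φ u) * s := by group
          _ = φ u * (φ u * s) * s := by rw [hc']
          _ = (φ u * φ u) * ((s : H) * s) := by group
          _ = z := by rw [S.mem_V.mp s.2, mul_one, ← hφm, hu]⟩
      have hf : Function.Injective f := fun s s' e => Subtype.ext (mul_left_cancel (congrArg Subtype.val e))
      obtain ⟨⟨s, hs⟩, hfs⟩ := ((Nat.bijective_iff_injective_and_card f).mpr ⟨hf, hR.symm⟩).2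
        ⟨φ v, by rw [← hφm, hv]⟩
      have hs' : φ u * s = φ v := congrArg Subtype.val hfs
      have hq : φ (u⁻¹ * v) = s := by
        refine mul_left_cancel (a := φ u) ?_
        rw [← hφm, mul_inv_cancel_left, hs']
      have h2 : (u⁻¹ * v) * (u⁻¹ * v) = 1 := hφi (by rw [hφm, hq, hφ1]; exact S.mem_V.mp hs)
      rcases huniq _ (u⁻¹ * v).2 (congrArg Subtype.val h2) with h1 | h1
      · exact Or.inl (inv_mul_eq_one.mp (Subtype.ext h1 : u⁻¹ * v = 1)).symm
      · exact Or.inr (by rw [← (Subtype.ext h1 : u⁻¹ * v = ⟨x, hxW⟩), mul_inv_cancel_left])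
    have h2dvd : 2 ∣ Nat.card W := by
      rw [← hx]
      exact Subgroup.orderOf_dvd_natCard W hxW
    have hle : Nat.card W ≤ 4 := by
      by_cases hex : ∃ u : W, u * u = ⟨x, hxW⟩
      · obtain ⟨u, hu⟩ := hex
        have hsub : (Finset.univ : Finset W) ⊆ {1, ⟨x, hxW⟩, u, u * ⟨x, hxW⟩} := by
          intro v _
          simp only [Finset.mem_insert, Finset.mem_singleton]
          rcases hsq v with h | h
          · rcases huniq v v.2 (congrArg Subtype.val h) with h1 | h1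
            · exact Or.inl (Subtype.ext h1)
            · exact Or.inr (Or.inl (Subtype.ext h1))
          · rcases hroot u v hu h with h1 | h1 <;> simp [h1]
        rw [Nat.card_eq_fintype_card]
        exact (Finset.card_le_card hsub).trans Finset.card_le_four
      · have hsub : (Finset.univ : Finset W) ⊆ {1, ⟨x, hxW⟩} := by
          intro v _
          simp only [Finset.mem_insert, Finset.mem_singleton]
          rcases hsq v with h | h
          · rcases huniq v v.2 (congrArg Subtype.val h) with h1 | h1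
            · exact Or.inl (Subtype.ext h1)
            · exact Or.inr (Subtype.ext h1)
          · exact absurd ⟨v, h⟩ hex
        rw [Nat.card_eq_fintype_card]
        have := (Finset.card_le_card hsub).trans Finset.card_le_two
        rw [Finset.card_univ] at this
        omega
    obtain ⟨k, hk⟩ := h2dvd
    have := Nat.card_pos (α := W)
    omega
  refine ⟨Nat.card W, hWcard, ?_, ?_⟩
  · letI : MulAction W {τ : T // τ ≠ 1} :=
      { smul := fun u τ => ⟨⟨u * τ.1 * (u : G)⁻¹, (Subgroup.mem_normalizer_iff.mp u.2.1 _).mp τ.1.2⟩,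
          fun e => τ.2 (Subtype.ext (conj_eq_one_iff.mp (congrArg Subtype.val e)))⟩
        one_smul := fun τ => Subtype.ext (Subtype.ext (by
          show ((1 : W) : G) * (τ.1 : G) * ((1 : W) : G)⁻¹ = τ.1; simp))
        mul_smul := fun u v τ => Subtype.ext (Subtype.ext (by
          show ((u * v : W) : G) * (τ.1 : G) * ((u * v : W) : G)⁻¹ = u * (v * τ.1 * (v : G)⁻¹) * (u : G)⁻¹
          simp [mul_assoc])) }
    have h := Cfsg.Agent.ZassAb.card_dvd_of_free (A := W) (S := {τ : T // τ ≠ 1}) fun u τ h =>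
      Subtype.ext (hWfree u u.2 τ.1 τ.1.2 (fun e => τ.2 (Subtype.ext e))
        (mul_inv_eq_iff_eq_mul.mp (congrArg (fun s : {τ : T // τ ≠ 1} => ((s.1 : T) : G)) h)))
    rwa [Nat.card_eq_fintype_card (α := {τ : T // τ ≠ 1}), Fintype.card_subtype_compl,
      Fintype.card_subtype_eq, ← Nat.card_eq_fintype_card] at h
  · rw [← Nat.card_prod]
    refine (Nat.card_congr (Equiv.ofBijective
      (fun p : T × W => (⟨(p.1 : G) * p.2, N.mul_mem (hTN p.1.2) p.2.2.1⟩ : N)) ⟨?_, ?_⟩)).symm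
    · rintro ⟨σ, u⟩ ⟨σ', u'⟩ h
      have h' : (σ : G) * u = σ' * u' := congrArg Subtype.val h
      have hmem : (σ' : G)⁻¹ * σ = u' * (u : G)⁻¹ := by
        rw [eq_mul_inv_iff_mul_eq, mul_assoc, h', inv_mul_cancel_left]
      have h1 : (σ' : G)⁻¹ * σ = 1 := hTW _ (mul_mem (inv_mem σ'.2) σ.2) (by
        rw [hmem]
        exact Subgroup.mem_centralizer_singleton_iff.mp (W.mul_mem u'.2 (W.inv_mem u.2)).2)
      have hσ : σ = σ' := (Subtype.ext (inv_mul_eq_one.mp h1)).symm
      subst hσ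
      exact Prod.ext rfl (Subtype.ext (mul_left_cancel h'))
    · rintro ⟨n, hn⟩
      have hy : ∀ τ ∈ T, n * x * n⁻¹ * τ * (n * x * n⁻¹) = τ⁻¹ := by
        intro τ hτ
        have hτ' : n⁻¹ * τ * n ∈ T := by
          have := (Subgroup.mem_normalizer_iff.mp (inv_mem hn) τ).mp hτ
          rwa [inv_inv] at this
        calc n * x * n⁻¹ * τ * (n * x * n⁻¹) = n * (x * (n⁻¹ * τ * n) * x) * n⁻¹ := by group
          _ = n * (n⁻¹ * τ * n)⁻¹ * n⁻¹ := by rw [hxi _ hτ']
          _ = τ⁻¹ := by group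
      obtain ⟨τ₀, hτ₀, hτ₀1⟩ := S.torus_ne_bot hT
      have hρ : x * (n * x * n⁻¹) ∈ T := by
        rw [← S.torus_cent hT hτ₀ hτ₀1, Subgroup.mem_centralizer_singleton_iff]
        have hny : (n * x * n⁻¹) * (n * x * n⁻¹) = 1 := by
          rw [show n * x * n⁻¹ * (n * x * n⁻¹) = n * (x * x) * n⁻¹ by group, hx2]; group
        calc x * (n * x * n⁻¹) * τ₀
            = x * (n * x * n⁻¹ * τ₀ * (n * x * n⁻¹)) * (n * x * n⁻¹) := by
              conv_lhs => rw [← mul_one τ₀, ← hny]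
              group
          _ = x * τ₀⁻¹ * (n * x * n⁻¹) := by rw [hy _ hτ₀]
          _ = τ₀ * (x * (n * x * n⁻¹)) := by
              have h0 := hxi _ (inv_mem hτ₀)
              rw [inv_inv] at h0
              conv_rhs => rw [← h0]
              rw [show x * τ₀⁻¹ * x * (x * (n * x * n⁻¹)) = x * τ₀⁻¹ * (x * x) * (n * x * n⁻¹) by group,
                hx2, mul_one]
      obtain ⟨k, hk, -⟩ := eq_of_sq_eq (S.torus_odd hT) (⟨_, hρ⟩ : T)
      set σ : T := (⟨_, hρ⟩ : T) ^ k with hσ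
      have hσσ : (σ : G) * σ = x * (n * x * n⁻¹) := by
        rw [← Subgroup.coe_mul, hσ, ← (Commute.refl _).mul_pow, ← hk]
      refine ⟨(σ⁻¹, ⟨σ * n, N.mul_mem (hTN σ.2) hn, Subgroup.mem_centralizer_singleton_iff.mpr ?_⟩),
        Subtype.ext (inv_mul_cancel_left (σ : G) n)⟩
      have hs : x * (σ : G)⁻¹ = σ * x := by
        have h0 := hxi _ σ.2
        rw [← h0, show x * (x * (σ : G) * x) = (x * x) * σ * x by group, hx2, one_mul]
      calc (σ : G) * n * x = σ * (x * (x * (n * x * n⁻¹))) * n := by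
            rw [← mul_assoc x x, hx2, one_mul]; group
        _ = σ * x * (σ * σ) * n := by rw [← hσσ]; group
        _ = x * (σ : G)⁻¹ * (σ * σ) * n := by rw [hs]
        _ = x * (σ * n) := by group

/-- The involutions inverting a torus element. -/
theorem card_inverters {g : G} (hg : IsTorusElt Ω g) :
    Nat.card {y : G // orderOf y = 2 ∧ y * g * y = g⁻¹} =
      Nat.card (Subgroup.centralizer ({g} : Set G)) := by
  have hT : IsTorus Ω (Subgroup.centralizer ({g} : Set G)) := ⟨g, hg, rfl⟩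
  obtain ⟨x, hx, hxi, -⟩ := S.torus_inv hT
  obtain ⟨hx2, -⟩ := orderOf_two_iff.mp hx
  have hgT : g ∈ Subgroup.centralizer ({g} : Set G) := Subgroup.mem_centralizer_singleton_iff.mpr rfl
  refine Nat.card_congr
    { toFun := fun y => ⟨x * y.1, Subgroup.mem_centralizer_singleton_iff.mpr ?_⟩
      invFun := fun τ => ⟨x * τ.1, ?_, ?_⟩
      left_inv := fun y => Subtype.ext (by simp [← mul_assoc, hx2])
      right_inv := fun τ => Subtype.ext (by simp [← mul_assoc, hx2]) }
  · obtain ⟨y, hyo, hyi⟩ := y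
    obtain ⟨hy2, -⟩ := orderOf_two_iff.mp hyo
    show x * y * g = g * (x * y)
    have hxg' : x * g⁻¹ * x = g := by rw [hxi _ (inv_mem hgT), inv_inv]
    calc x * y * g = x * (y * g * y) * y := by
          conv_lhs => rw [← mul_one g, ← hy2]
          group
      _ = x * g⁻¹ * y := by rw [hyi]
      _ = g * (x * y) := by
          conv_rhs => rw [← hxg']
          rw [show x * g⁻¹ * x * (x * y) = x * g⁻¹ * (x * x) * y by group, hx2, mul_one]
  · refine orderOf_two_iff.mpr ⟨?_, fun h => ?_⟩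
    · rw [← mul_assoc, show x * (τ : G) * x = (τ : G)⁻¹ from hxi _ τ.2, inv_mul_cancel]
    · have hxT : x ∈ Subgroup.centralizer ({g} : Set G) := by
        rw [eq_inv_of_mul_eq_one_left h]; exact inv_mem τ.2
      obtain ⟨c, hc⟩ := S.exists_fix hx
      exact S.torus_fpf hT hxT (orderOf_two_iff.mp hx).2 c ((hc c).mpr rfl)
  · have hc : (τ : G) * g = g * τ := Subgroup.mem_centralizer_singleton_iff.mp τ.2
    rw [show x * (τ : G) * g * (x * τ) = x * ((τ : G) * g) * x * τ by group, hc,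
      show x * (g * (τ : G)) * x * τ = x * g * (x * x) * τ * x * τ by rw [hx2]; group,
      show x * g * (x * x) * (τ : G) * x * τ = (x * g * x) * (x * τ * x) * τ by group,
      hxi g hgT, hxi _ τ.2, mul_assoc, inv_mul_cancel, mul_one]

end Suz

end Cfsg.Agent.ZassSuz
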